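import Cfsg.Agent.Lib.LeechFive.Pass

/-!
The units fitting pattern 2.
-/

set_option autoImplicit false
set_option maxRecDepth 100000

namespace CfsgLib.LeechFive

open CfsgLib.Icosian

theorem good_two_0 : ((List.range' 0 3).all fun c => (List.range 120).filter (passQ 2 (qRep c)) == goodOf 2 c) = true := by
  decide +kernel

theorem good_two_3 : ((List.range' 3 3).all fun c => (List.range 120).filter (passQ 2 (qRep c)) == goodOf 2 c) = true := by
  decide +kernel

theorem good_two_6 : ((List.range' 6 3).all fun c => (List.range 120).filter (passQ 2 (qRep c)) == goodOf 2 c) = true := by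
  decide +kernel

theorem good_two_9 : ((List.range' 9 3).all fun c => (List.range 120).filter (passQ 2 (qRep c)) == goodOf 2 c) = true := by
  decide +kernel

theorem good_two_12 : ((List.range' 12 3).all fun c => (List.range 120).filter (passQ 2 (qRep c)) == goodOf 2 c) = true := by
  decide +kernel

theorem good_two_15 : ((List.range' 15 3).all fun c => (List.range 120).filter (passQ 2 (qRep c)) == goodOf 2 c) = true := by
  decide +kernel

theorem good_two_18 : ((List.range' 18 3).all fun c => (List.range 120).filter (passQ 2 (qRep c)) == goodOf 2 c) = true := by
  decide +kernel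

theorem good_two_21 : ((List.range' 21 3).all fun c => (List.range 120).filter (passQ 2 (qRep c)) == goodOf 2 c) = true := by
  decide +kernel

theorem good_two_24 : ((List.range' 24 3).all fun c => (List.range 120).filter (passQ 2 (qRep c)) == goodOf 2 c) = true := by
  decide +kernel

theorem good_two_27 : ((List.range' 27 3).all fun c => (List.range 120).filter (passQ 2 (qRep c)) == goodOf 2 c) = true := by
  decide +kernel

theorem good_two_30 : ((List.range' 30 3).all fun c => (List.range 120).filter (passQ 2 (qRep c)) == goodOf 2 c) = true := by
  decide +kernel

theorem good_two : ((List.range 33).all fun c =>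
    (List.range 120).filter (passQ 2 (qRep c)) == goodOf 2 c) = true := by
  rw [show List.range 33 = List.range' 0 3 ++ List.range' 3 3 ++ List.range' 6 3 ++ List.range' 9 3 ++ List.range' 12 3 ++ List.range' 15 3 ++ List.range' 18 3 ++ List.range' 21 3 ++ List.range' 24 3 ++ List.range' 27 3 ++ List.range' 30 3 from rfl]
  simp only [List.all_append, Bool.and_self, good_two_0, good_two_3, good_two_6, good_two_9, good_two_12, good_two_15, good_two_18, good_two_21, good_two_24, good_two_27, good_two_30]

end CfsgLib.LeechFive
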