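import Cfsg.Agent.Lib.LeechFive.GoodA
import Cfsg.Agent.Lib.LeechFive.GoodB
import Cfsg.Agent.Lib.LeechFive.GoodC

/-!
Kernel-checked tables for the stabiliser chain.
-/

set_option autoImplicit false
set_option maxRecDepth 100000

namespace CfsgLib.LeechFive

open CfsgLib.Icosian

/-- The later conditions. -/
noncomputable def passRest (s : ℕ) (p : ℕ × ℕ) : Bool :=
  (List.range' 8 ((listOf consTab s).length - 8)).all fun k =>
    Bv (vecP p) (vecP (wPair k)) == (listOf consTab s).getD k 0

/-- The candidates at a step. -/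
noncomputable def candList (s : ℕ) : List (ℕ × ℕ) :=
  (List.range 315).flatMap fun i =>
    ((goodOf (patOf.getD s 0) (qIdx.getD i 0)).map fun e => (e, i)).filter (passRest s)

theorem uF_eq : uF = ⟨⟨-2, 1⟩, ⟨0, 0⟩, ⟨1, -1⟩, ⟨-2, 1⟩⟩ := by decide +kernel

theorem uF_pow : uF * uF * uF * uF * uF = 1 ∧ uF.nrm = ⟨1, 0⟩ := by decide +kernel

theorem chain_ok : ∀ k : Fin 24, (wPair k).1 < 120 ∧ (wPair k).2 < 315 ∧
    ((k : ℕ) < 8 → (wPair k).2 = 0) := by decide +kernel

theorem chain_step : ∀ s : Fin 6, ∀ j : Fin 3,
    Vec.lmul uF (vecP (wPair (4 * s + j))) = vecP (wPair (4 * s + j + 1)) := by decide +kernel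

theorem chain_start : Bv (vecP (wPair 0)) (vecP (wPair 0)) = 32 ∧
    ∀ s : Fin 6, Bv (vecP (wPair (4 * s))) (Vec.lmul uF (vecP (wPair (4 * s)))) = -16 ∧
      Bv (vecP (wPair (4 * s))) (vecP (wPair (4 * s))) = 32 := by decide +kernel

theorem cons_ok : ∀ s : Fin 5, (listOf consTab s).length = 4 * ((s : ℕ) + 1) ∧
    listOf patTab (patOf.getD s 0) = (listOf consTab s).take 8 ∧ patOf.getD s 0 < 3 := by decide +kernel

theorem cons_values : ∀ s : Fin 5, ∀ k : Fin 20, (k : ℕ) < 4 * ((s : ℕ) + 1) →
    Bv (vecP (wPair (4 * ((s : ℕ) + 1)))) (vecP (wPair k)) = (listOf consTab s).getD k 0 := by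
  decide +kernel

theorem class_ok_0 : ((List.range' 0 105).all fun i =>
    decide (qIdx.getD i 0 < 33) && decide (Vec.ip (rep i) (rep 0) = qRep (qIdx.getD i 0))) = true := by
  decide +kernel

theorem class_ok_105 : ((List.range' 105 105).all fun i =>
    decide (qIdx.getD i 0 < 33) && decide (Vec.ip (rep i) (rep 0) = qRep (qIdx.getD i 0))) = true := by
  decide +kernel

theorem class_ok_210 : ((List.range' 210 105).all fun i =>
    decide (qIdx.getD i 0 < 33) && decide (Vec.ip (rep i) (rep 0) = qRep (qIdx.getD i 0))) = true := by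
  decide +kernel

theorem class_ok : ((List.range 315).all fun i =>
    decide (qIdx.getD i 0 < 33) && decide (Vec.ip (rep i) (rep 0) = qRep (qIdx.getD i 0))) = true := by
  rw [show List.range 315 = List.range' 0 105 ++ List.range' 105 105 ++ List.range' 210 105 from rfl]
  simp only [List.all_append, Bool.and_self, class_ok_0, class_ok_105, class_ok_210]

theorem cand_count_0 : (candList 0).length = sizeTab.getD 0 0 := by decide +kernel

theorem cand_count_1 : (candList 1).length = sizeTab.getD 1 0 := by decide +kernel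

theorem cand_count_2 : (candList 2).length = sizeTab.getD 2 0 := by decide +kernel

theorem cand_count_3 : (candList 3).length = sizeTab.getD 3 0 := by decide +kernel

theorem cand_count_4 : (candList 4).length = sizeTab.getD 4 0 := by decide +kernel

theorem cand_count : ∀ s : Fin 5, (candList s).length = sizeTab.getD s 0 := by
  intro s
  fin_cases s
  exacts [cand_count_0, cand_count_1, cand_count_2, cand_count_3, cand_count_4]

/-- The conditions on a multiple of a representative imply membership in the candidates. -/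
theorem mem_candList {s e i : ℕ} (hs : s < 5) (he : e < 120) (hi : i < 315)
    (h : ∀ k < 4 * (s + 1), Bv (vecP (e, i)) (vecP (wPair k)) = (listOf consTab s).getD k 0) :
    (e, i) ∈ candList s := by
  obtain ⟨hlen, hpat, hj⟩ := cons_ok ⟨s, hs⟩
  simp only at hlen hpat hj
  have hq := List.all_eq_true.1 class_ok i (List.mem_range.2 hi)
  simp only [Bool.and_eq_true, decide_eq_true_eq] at hq
  have hgood : goodOf (patOf.getD s 0) (qIdx.getD i 0) =
      (List.range 120).filter (passQ (patOf.getD s 0) (qRep (qIdx.getD i 0))) := by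
    have key : ∀ j, ((List.range 33).all fun c =>
        (List.range 120).filter (passQ j (qRep c)) == goodOf j c) = true →
        goodOf j (qIdx.getD i 0) = (List.range 120).filter (passQ j (qRep (qIdx.getD i 0))) := fun j hjj =>
      (beq_iff_eq.1 (List.all_eq_true.1 hjj _ (List.mem_range.2 hq.1))).symm
    rcases (show patOf.getD s 0 = 0 ∨ patOf.getD s 0 = 1 ∨ patOf.getD s 0 = 2 by omega) with e' | e' | e' <;>
      rw [e']
    exacts [key 0 good_zero, key 1 good_one, key 2 good_two]
  refine List.mem_flatMap.2 ⟨i, List.mem_range.2 hi, List.mem_filter.2 ⟨List.mem_map.2 ⟨e, ?_, rfl⟩, ?_⟩⟩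
  · rw [hgood]
    refine List.mem_filter.2 ⟨List.mem_range.2 he, ?_⟩
    simp only [passQ, List.all_eq_true, List.mem_range, beq_iff_eq, hpat, List.length_take, hlen]
    intro k hk
    have hk8 : k < 8 := by omega
    obtain ⟨-, -, h0⟩ := chain_ok ⟨k, by omega⟩
    have hk0 := h k (by omega)
    rw [Bv, vecP, vecP, ip_lmul, h0 hk8, hq.2] at hk0
    rw [hk0, List.getD_eq_getElem _ _ (by omega), List.getD_eq_getElem _ _ (by simp; omega),
      List.getElem_take]
  · simp only [passRest, List.all_eq_true, List.mem_range'_1, beq_iff_eq]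
    intro k hk
    exact h k (by omega)

end CfsgLib.LeechFive
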