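import Cfsg.Agent.Lib.LeechFive.Iso
import Cfsg.Agent.Lib.LeechFive.Cert

/-!
The automorphisms commuting with the element of order five form a group of order at most 6048000.
-/

set_option autoImplicit false
set_option maxRecDepth 100000

noncomputable section

namespace CfsgLib.LeechFive

open Quaternion
open CfsgLib.Icosian
open Cfsg.Spor (icoLeech qip)

theorem uF_star : uF.toH * star uF.toH = 1 ∧ star uF.toH * uF.toH = 1 := unit_mul_star (by decide +kernel)

/-- Left multiplication by the unit of order five. -/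
def aP : Equiv.Perm Pt where
  toFun x := ⟨fun t => uF.toH * (x : QV) t, icoLeech_mul x.2 (toH_mem _)⟩
  invFun x := ⟨fun t => star uF.toH * (x : QV) t,
    icoLeech_mul x.2 (Ico.toH_conj uF ▸ toH_mem _)⟩
  left_inv x := Subtype.ext (funext fun t => by
    show star uF.toH * (uF.toH * _) = _
    rw [← mul_assoc, uF_star.2, one_mul])
  right_inv x := Subtype.ext (funext fun t => by
    show uF.toH * (star uF.toH * _) = _
    rw [← mul_assoc, uF_star.1, one_mul])

theorem crd_aP (x : Pt) : crd (aP x) = ofVec (Vec.lmul uF (toVec (crd x))) := by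
  refine crd_of_toV ?_
  rw [Vec.toV_lmul, ← toQ_apply, toQ_crd]
  rfl

theorem toVec_aP (x : Pt) : toVec (crd (aP x)) = Vec.lmul uF (toVec (crd x)) := by
  rw [crd_aP, toVec_ofVec]

theorem ip_lmul_self {e : Ico} (he : e.toH * star e.toH = 1) (v : Vec) :
    Vec.ip (Vec.lmul e v) (Vec.lmul e v) = Vec.ip v v := by
  apply Ico.toH_injective
  rw [ip_lmul, Ico.toH_mul, Ico.toH_mul, Ico.toH_conj, ← Vec.qip_toV, Vec.qip_self, ← mul_assoc,
    ← (Quaternion.coe_commute _ _).eq, mul_assoc, he, mul_one]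

theorem aP_isGood : IsGood aP := by
  refine ⟨fun x y z hz => crd_add fun t => ?_, fun x => ?_⟩
  · show uF.toH * (z : QV) t = uF.toH * (x : QV) t + uF.toH * (y : QV) t
    rw [← mul_add]
    congr 1
    rw [← toQ_crd z, hz, map_add, toQ_crd, toQ_crd]
    rfl
  · simp only [B, Bv, toVec_aP, ip_lmul_self uF_star.1]

theorem aP_mem : aP ∈ Lin := mem_Lin.2 aP_isGood

/-- An element of the group as an additive map on coordinates. -/
def gHom (g : Equiv.Perm Pt) (hg : IsGood g) : L24 →+ Z24 :=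
  AddMonoidHom.mk' (fun f => crd (g (ptOf f))) fun f f' =>
    hg.1 _ _ _ (by rw [crd_ptOf, crd_ptOf, crd_ptOf]; rfl)

theorem gHom_crd (g : Equiv.Perm Pt) (hg : IsGood g) (x : Pt) :
    gHom g hg ⟨crd x, crd_mem x⟩ = crd (g x) := by
  show crd (g (ptOf _)) = _
  congr 2
  exact crd_injective (crd_ptOf _)

theorem B_preserved {g : Equiv.Perm Pt} (hg : IsGood g) (x y : Pt) :
    B (crd (g x)) (crd (g y)) = B (crd x) (crd y) := by
  have hz : crd (ptOf (⟨crd x, crd_mem x⟩ + ⟨crd y, crd_mem y⟩)) = crd x + crd y := crd_ptOf _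
  have h := hg.2 (ptOf (⟨crd x, crd_mem x⟩ + ⟨crd y, crd_mem y⟩))
  rw [hg.1 x y _ hz, hz] at h
  simp only [B_add_left, B_add_right] at h
  rw [hg.2 x, hg.2 y, B_comm (crd (g y)) (crd (g x)), B_comm (crd y) (crd x)] at h
  omega

/-- The automorphisms commuting with the element of order five. -/
def C : Subgroup (Equiv.Perm Pt) := Lin ⊓ Subgroup.centralizer {aP}

theorem good_of_mem {g : Equiv.Perm Pt} (hg : g ∈ C) : IsGood g := mem_Lin.1 hg.1

theorem comm_of_mem {g : Equiv.Perm Pt} (hg : g ∈ C) (x : Pt) : g (aP x) = aP (g x) :=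
  Equiv.congr_fun (Subgroup.mem_centralizer_singleton_iff.1 hg.2) x

theorem len_eq_four {v : Vec} (h : Bv v v = 32) (h' : Bv v (Vec.lmul uF v) = -16) :
    v.len = ⟨4, 0⟩ := by
  have e : Vec.ip v (Vec.lmul uF v) = ⟨v.len, 0, 0, 0⟩ * uF.conj := by
    apply Ico.toH_injective
    rw [← ip_self, Ico.toH_mul, ← Vec.qip_toV, ← Vec.qip_toV, Ico.toH_conj, Vec.toV_lmul]
    simp only [qip, star_mul, Finset.sum_mul, mul_assoc]
  rw [Bv, ip_self] at h
  rw [Bv, e, uF_eq] at h'
  simp only [Bq, phiZ, Ico.conj, Ico.mul_def, ZT.s, ZT.zero_def, ZT.add_def, ZT.sub_def, ZT.neg_def,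
    ZT.mul_def] at h h'
  ring_nf at h h'
  ext <;> simp <;> omega

theorem vecP_mem (p : Fin 120 × Fin 315) : (vecP ((p.1 : ℕ), (p.2 : ℕ))).toV = mult p := by
  rw [vecP, Vec.toV_lmul]
  rfl

/-- The lattice point of a pair. -/
def ptP (p : Fin 120 × Fin 315) : Pt := ⟨mult p, (mult_mem_minVecs p).1⟩

theorem toVec_ptP (p : Fin 120 × Fin 315) :
    toVec (crd (ptP p)) = vecP ((p.1 : ℕ), (p.2 : ℕ)) := by
  rw [crd_of_toV (x := ptP p) (v := vecP ((p.1 : ℕ), (p.2 : ℕ))) (vecP_mem p).symm, toVec_ofVec]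

theorem exists_ptP {x : Pt} (h : B (crd x) (crd x) = 32) (h' : B (crd x) (crd (aP x)) = -16) :
    ∃ p, x = ptP p := by
  rw [B] at h
  rw [B, toVec_aP] at h'
  have hlen := len_eq_four h h'
  have hmem : (x : QV) ∈ minVecs := by
    refine ⟨x.2, ?_⟩
    rw [← toQ_crd x, toQ_apply, Vec.qip_self_four]
    exact hlen
  obtain ⟨p, hp⟩ := (range_mult ▸ hmem : (x : QV) ∈ Set.range mult)
  exact ⟨p, Subtype.ext hp.symm⟩

/-- A pair of the chain. -/
def wFin (k : Fin 24) : Fin 120 × Fin 315 :=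
  (⟨(wPair k).1, (chain_ok k).1⟩, ⟨(wPair k).2, (chain_ok k).2.1⟩)

/-- A point of the chain. -/
def wPt (k : Fin 24) : Pt := ptP (wFin k)

theorem toVec_wPt (k : Fin 24) : toVec (crd (wPt k)) = vecP (wPair k) := toVec_ptP _

theorem aP_wPt (s : Fin 6) (j : Fin 3) :
    aP (wPt ⟨4 * s + j, by omega⟩) = wPt ⟨4 * s + j + 1, by omega⟩ := by
  refine crd_injective (toVec_injective ?_)
  rw [toVec_aP, toVec_wPt, toVec_wPt]
  exact chain_step s j

/-- The stabiliser of the first vectors of the chain. -/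
def stab (t : ℕ) : Subgroup (Equiv.Perm Pt) where
  carrier := {g | g ∈ C ∧ ∀ k : Fin 24, (k : ℕ) < 4 * t → g (wPt k) = wPt k}
  one_mem' := ⟨one_mem _, fun _ _ => rfl⟩
  mul_mem' := fun {a b} ha hb => ⟨mul_mem ha.1 hb.1, fun k hk => by
    rw [Equiv.Perm.mul_apply, hb.2 k hk, ha.2 k hk]⟩
  inv_mem' := fun {a} ha => ⟨inv_mem ha.1, fun k hk => Equiv.Perm.inv_eq_iff_eq.2 (ha.2 k hk).symm⟩

theorem mem_stab {t : ℕ} {g : Equiv.Perm Pt} :
    g ∈ stab t ↔ g ∈ C ∧ ∀ k : Fin 24, (k : ℕ) < 4 * t → g (wPt k) = wPt k := Iff.rfl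

theorem stab_zero : stab 0 = C :=
  le_antisymm (fun g hg => hg.1) fun g hg => ⟨hg, fun k hk => by omega⟩

theorem stab_six : stab 6 = ⊥ := by
  refine (Subgroup.eq_bot_iff_forall _).2 fun g hg => Equiv.ext fun x => crd_injective ?_
  have hgood := good_of_mem hg.1
  have hfix : ∀ k : Fin 24, crd (g (wPt k)) = crd (wPt k) := fun k => by rw [hg.2 k (by omega)]
  have hcert : ∀ p i : Fin 24, ∑ k : Fin 24, rowOf certTab p k * ofVec (vecP (wPair k)) i =
      rowOf frameTab p i := by decide +kernel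
  have hF : ∀ p : Cfsg.GolayPt, crd (g (ptOf ⟨frameV p, frameV_mem p⟩)) = frameV p := by
    intro p
    have e : (⟨frameV p, frameV_mem p⟩ : L24) =
        ∑ k : Fin 24, rowOf certTab (CfsgLib.Golay.idx p).val k • ⟨crd (wPt k), crd_mem _⟩ := by
      apply Subtype.ext
      rw [AddSubgroup.val_finsetSum]
      funext i
      simp only [Finset.sum_apply, AddSubgroup.coe_zsmul, Pi.smul_apply, smul_eq_mul]
      rw [frameV, ← hcert (CfsgLib.Golay.idx p) i]
      refine Finset.sum_congr rfl fun k _ => ?_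
      rw [← ofVec_toVec (crd (wPt k)), toVec_wPt]
    show gHom g hgood _ = _
    conv_rhs => rw [show frameV p = ((⟨frameV p, frameV_mem p⟩ : L24) : Z24) from rfl, e]
    rw [e, map_sum, AddSubgroup.val_finsetSum]
    refine Finset.sum_congr rfl fun k _ => ?_
    rw [map_zsmul, gHom_crd, hfix, AddSubgroup.coe_zsmul]
  apply smul_right_injective Z24 (show (64 : ℤ) ≠ 0 by norm_num)
  simp only [Equiv.Perm.one_apply]
  rw [← complete, ← complete]
  refine Finset.sum_congr rfl fun p _ => ?_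
  have h := B_preserved hgood x (ptOf ⟨frameV p, frameV_mem p⟩)
  rw [hF, crd_ptOf] at h
  rw [h]

/-- The bound at each step. -/
def stepSize (t : ℕ) : ℕ := [37800, 5, 16, 1, 2, 1].getD t 1

theorem ncard_orbit_le (t : Fin 6) :
    (MulAction.orbit (stab t) (wPt ⟨4 * t, by omega⟩)).ncard ≤ stepSize t := by
  have himg : ∀ x ∈ MulAction.orbit (stab t) (wPt ⟨4 * t, by omega⟩), ∃ p, x = ptP p ∧
      ∀ k : Fin 24, (k : ℕ) < 4 * t →
        Bv (vecP ((p.1 : ℕ), (p.2 : ℕ))) (vecP (wPair k)) = Bv (vecP (wPair (4 * t))) (vecP (wPair k)) := by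
    rintro _ ⟨⟨g, hgC, hfix⟩, rfl⟩
    obtain ⟨-, hs⟩ := chain_start
    have hgood := good_of_mem hgC
    obtain ⟨p, hp⟩ := exists_ptP (x := g (wPt ⟨4 * t, by omega⟩))
      (by rw [hgood.2, B, toVec_wPt]; exact (hs t).2)
      (by rw [← comm_of_mem hgC, B_preserved hgood, B, toVec_aP, toVec_wPt]; exact (hs t).1)
    refine ⟨p, hp, fun k hk => ?_⟩
    have h := B_preserved hgood (wPt ⟨4 * t, by omega⟩) (wPt k)
    rw [hfix k hk, hp] at h
    simpa only [B, toVec_ptP, toVec_wPt] using h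
  obtain ⟨t, ht⟩ := t
  rcases t with _ | s
  · have hsub : MulAction.orbit (stab 0) (wPt ⟨4 * 0, by omega⟩) ⊆ Set.range ptP := fun x hx =>
      (himg x hx).elim fun p hp => ⟨p, hp.1.symm⟩
    refine le_trans (Set.ncard_le_ncard hsub (Set.finite_range _)) ?_
    rw [← Set.image_univ]
    refine le_trans (Set.ncard_image_le Set.finite_univ) ?_
    simp [stepSize]
  · let nat : Fin 120 × Fin 315 → ℕ × ℕ := fun p => ((p.1 : ℕ), (p.2 : ℕ))
    have hinj : Function.Injective nat := fun a b h => by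
      simp only [nat, Prod.mk.injEq] at h
      exact Prod.ext (Fin.ext h.1) (Fin.ext h.2)
    have hsub : MulAction.orbit (stab (s + 1)) (wPt ⟨4 * (s + 1), by omega⟩) ⊆
        ptP '' (nat ⁻¹' ((candList s).toFinset : Set (ℕ × ℕ))) := by
      intro x hx
      obtain ⟨p, hp, hcond⟩ := himg x hx
      refine ⟨p, ?_, hp.symm⟩
      simp only [Set.mem_preimage, Finset.mem_coe, List.mem_toFinset, nat]
      refine mem_candList (by omega) p.1.2 p.2.2 fun k hk => ?_
      rw [hcond ⟨k, by omega⟩ hk]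
      exact cons_values ⟨s, by omega⟩ ⟨k, by omega⟩ hk
    have hfin : (nat ⁻¹' ((candList s).toFinset : Set (ℕ × ℕ))).Finite := Set.toFinite _
    refine le_trans (Set.ncard_le_ncard hsub (hfin.image _)) (le_trans (Set.ncard_image_le hfin) ?_)
    refine le_trans (Set.ncard_le_ncard_of_injOn (t := ((candList s).toFinset : Set (ℕ × ℕ))) nat (fun p hp => hp)
      hinj.injOn (Set.toFinite _)) ?_
    rw [Set.ncard_coe_finset]
    refine le_trans (List.toFinset_card_le _) ?_
    rw [cand_count ⟨s, by omega⟩]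
    have : ∀ s : Fin 5, sizeTab.getD s 0 ≤ stepSize ((s : ℕ) + 1) := by decide +kernel
    exact this ⟨s, by omega⟩

theorem stabilizer_le (t : Fin 6) (g : stab t)
    (hg : g ∈ MulAction.stabilizer (stab t) (wPt ⟨4 * t, by omega⟩)) :
    (g : Equiv.Perm Pt) ∈ stab ((t : ℕ) + 1) := by
  obtain ⟨g, hgC, hfix⟩ := g
  have h0 : g (wPt ⟨4 * t, by omega⟩) = wPt ⟨4 * t, by omega⟩ := hg
  refine ⟨hgC, fun k hk => ?_⟩
  rcases Nat.lt_or_ge (k : ℕ) (4 * t) with h | h
  · exact hfix k h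
  have step : ∀ j : Fin 3, g (wPt ⟨4 * t + j, by omega⟩) = wPt ⟨4 * t + j, by omega⟩ →
      g (wPt ⟨4 * t + j + 1, by omega⟩) = wPt ⟨4 * t + j + 1, by omega⟩ := fun j hj => by
    rw [← aP_wPt t j, comm_of_mem hgC, hj]
  have h1 := step 0 h0
  have h2 := step 1 h1
  have h3 := step 2 h2
  rcases (show (k : ℕ) = 4 * t ∨ (k : ℕ) = 4 * t + 1 ∨ (k : ℕ) = 4 * t + 2 ∨ (k : ℕ) = 4 * t + 3 by omega)
    with e | e | e | e
  · rwa [show k = ⟨4 * t, by omega⟩ from Fin.ext e]
  · exact (congrArg (fun m => g (wPt m) = wPt m) (show k = ⟨4 * t + 1, by omega⟩ from Fin.ext e)).mpr h1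
  · exact (congrArg (fun m => g (wPt m) = wPt m) (show k = ⟨4 * t + 2, by omega⟩ from Fin.ext e)).mpr h2
  · exact (congrArg (fun m => g (wPt m) = wPt m) (show k = ⟨4 * t + 3, by omega⟩ from Fin.ext e)).mpr h3

theorem card_stab_le (t : Fin 6) [Finite (stab ((t : ℕ) + 1))] :
    Nat.card (stab t) ≤ stepSize t * Nat.card (stab ((t : ℕ) + 1)) := by
  rw [← Subgroup.index_mul_card (MulAction.stabilizer (stab t) (wPt ⟨4 * t, by omega⟩)),
    MulAction.index_stabilizer]
  refine Nat.mul_le_mul (ncard_orbit_le t) (Nat.card_le_card_of_injective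
    (fun g => (⟨_, stabilizer_le t g.1 g.2⟩ : stab ((t : ℕ) + 1))) fun a b h => ?_)
  exact Subtype.ext (Subtype.ext (congrArg (fun z : stab ((t : ℕ) + 1) => (z : Equiv.Perm Pt)) h))

theorem finite_C : Finite C := by
  haveI : Finite Cfsg.Co0 := CfsgLib.Golay.co0_finite
  haveI : Finite Lin := Finite.of_equiv _ linEquiv.symm.toEquiv
  exact Finite.of_injective (fun g : C => (⟨g, g.2.1⟩ : Lin)) fun a b h =>
    Subtype.ext (congrArg (fun z : Lin => (z : Equiv.Perm Pt)) h)

theorem card_C_le : Nat.card C ≤ 6048000 := by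
  haveI := finite_C
  haveI : ∀ t, Finite (stab t) := fun t =>
    Finite.of_injective (fun g : stab t => (⟨g, g.2.1⟩ : C)) fun a b h =>
      Subtype.ext (congrArg (fun z : C => (z : Equiv.Perm Pt)) h)
  have h0 := card_stab_le 0
  have h1 := card_stab_le 1
  have h2 := card_stab_le 2
  have h3 := card_stab_le 3
  have h4 := card_stab_le 4
  have h5 := card_stab_le 5
  simp only [Fin.val_zero, Fin.val_one, Fin.val_two, show ((3 : Fin 6) : ℕ) = 3 from rfl,
    show ((4 : Fin 6) : ℕ) = 4 from rfl, show ((5 : Fin 6) : ℕ) = 5 from rfl, stepSize,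
    List.getD_cons_zero, List.getD_cons_succ, Nat.reduceAdd, stab_zero, stab_six,
    Subgroup.card_bot] at h0 h1 h2 h3 h4 h5
  omega

end CfsgLib.LeechFive
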