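import Mathlib

/-! Generated tables for an element of order five in the automorphism group of the Leech lattice. -/

set_option autoImplicit false
set_option maxRecDepth 100000

namespace CfsgLib.LeechFive

/-- The index of a unit of order five. -/
def fiveIdx : ℕ := 4

/-- The icosian vectors of the coordinate frame. -/
def frameTab : List (List ℤ) :=
  [[-12, 8, 0, 0, 6, -4, -10, 6, 0, 0, 0, 0, 0, 0, 0, 0, 0, 0, 0, 0, 0, 0, 0, 0],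
    [-4, 0, 0, 0, 2, 0, -2, 2, 0, 0, 0, 0, 0, 0, 0, 0, 0, 0, 0, 0, 0, 0, 0, 0],
    [0, 0, 8, -4, -6, 4, -2, 2, 0, 0, 0, 0, 0, 0, 0, 0, 0, 0, 0, 0, 0, 0, 0, 0],
    [0, 0, 8, -4, -6, 4, -6, 2, 0, 0, 0, 0, 0, 0, 0, 0, 0, 0, 0, 0, 0, 0, 0, 0],
    [0, 0, 4, -4, -2, 0, -2, 2, 0, 0, 0, 0, 0, 0, 0, 0, 0, 0, 0, 0, 0, 0, 0, 0],
    [0, 0, 0, 0, 0, 0, 0, 0, 4, -2, 4, -2, -6, 4, 2, -2, 2, -2, 0, 0, -2, 2, 2, 0],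
    [0, 0, 0, 0, 0, 0, 0, 0, 4, -2, 0, 0, 0, 0, 4, -2, 2, -2, 4, -2, -4, 2, 0, 0],
    [0, 0, 4, -4, -6, 4, -2, 2, 0, 0, 0, 0, 0, 0, 0, 0, 0, 0, 0, 0, 0, 0, 0, 0],
    [0, 0, 0, 0, 0, 0, 0, 0, 2, -2, -2, 0, 0, 0, 4, -2, -4, 2, -2, 2, 4, -2, 0, 0],
    [0, 0, 0, 0, 0, 0, 0, 0, -2, 2, -4, 2, 4, -2, 0, 0, 4, -2, 0, 0, 0, 0, 4, -2],
    [0, 0, 0, 0, 2, 0, -2, 2, 0, 0, 0, 0, 0, 0, 0, 0, 0, 0, 0, 0, 0, 0, 0, 0],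
    [0, 0, 0, 0, 0, 0, 0, 0, -2, 2, 2, 0, 0, 0, -4, 2, -4, 2, -2, 2, 4, -2, 0, 0],
    [0, 0, 0, 0, 2, 0, 2, -2, 0, 0, 0, 0, 0, 0, 0, 0, 0, 0, 0, 0, 0, 0, 0, 0],
    [0, 0, 0, 0, 0, 0, 0, 0, -4, 2, -4, 2, 6, -4, -2, 2, 2, -2, 0, 0, -2, 2, 2, 0],
    [0, 0, 0, 0, 0, 0, 0, 0, -2, 2, 0, 0, 2, -2, -2, 0, 4, -2, 4, -2, -6, 4, 2, -2],
    [0, 0, 0, 0, 0, 0, 0, 0, -4, 2, 0, 0, 0, 0, -4, 2, 2, -2, 4, -2, -4, 2, 0, 0],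
    [0, 0, 0, 0, 0, 0, 0, 0, 2, -2, 4, -2, -4, 2, 0, 0, 4, -2, 0, 0, 0, 0, 4, -2],
    [0, 0, 0, 0, 0, 0, 0, 0, -4, 2, 6, -4, -2, 2, -6, 4, -2, 2, 2, -2, -2, 0, -2, 2],
    [0, 0, 0, 0, 0, 0, 0, 0, 2, -2, -2, 2, 2, 0, 2, -2, 4, -2, -6, 4, 2, -2, 6, -4],
    [0, 0, 0, 0, 0, 0, 0, 0, -4, 2, -2, 2, 4, -2, 0, 0, -2, 2, 2, 0, 0, 0, -4, 2],
    [0, 0, 0, 0, 0, 0, 0, 0, 4, -2, -6, 4, 2, -2, 6, -4, -2, 2, 2, -2, -2, 0, -2, 2],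
    [0, 0, 0, 0, 0, 0, 0, 0, 2, -2, 0, 0, -2, 2, 2, 0, 4, -2, 4, -2, -6, 4, 2, -2],
    [0, 0, 0, 0, 0, 0, 0, 0, 4, -2, 2, -2, -4, 2, 0, 0, -2, 2, 2, 0, 0, 0, -4, 2],
    [0, 0, 0, 0, 0, 0, 0, 0, -2, 2, 2, -2, -2, 0, -2, 2, 4, -2, -6, 4, 2, -2, 6, -4]]

/-- The inner products of the unit vectors with the frame. -/
def dualTab : List (List ℤ) :=
  [[0, -16, 0, 0, 0, 0, 0, 0, 0, 0, 16, 0, 0, 0, 0, 0, 0, 0, 0, 0, 0, 0, 0, 0],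
    [8, -24, 8, -8, -8, 0, 0, 8, 0, 0, 8, 0, 8, 0, 0, 0, 0, 0, 0, 0, 0, 0, 0, 0],
    [0, 0, 16, 0, 0, 0, 0, -16, 0, 0, 0, 0, 0, 0, 0, 0, 0, 0, 0, 0, 0, 0, 0, 0],
    [0, 0, 16, 0, -16, 0, 0, -16, 0, 0, 0, 0, -16, 0, 0, 0, 0, 0, 0, 0, 0, 0, 0, 0],
    [0, 0, 0, 0, 0, 0, 0, 0, 0, 0, 16, 0, 16, 0, 0, 0, 0, 0, 0, 0, 0, 0, 0, 0],
    [0, 0, 0, 0, -16, 0, 0, 16, 0, 0, 16, 0, 16, 0, 0, 0, 0, 0, 0, 0, 0, 0, 0, 0],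
    [0, 0, 16, -16, 0, 0, 0, 0, 0, 0, 0, 0, 0, 0, 0, 0, 0, 0, 0, 0, 0, 0, 0, 0],
    [0, 0, 16, -16, 0, 0, 0, 0, 0, 0, 16, 0, -16, 0, 0, 0, 0, 0, 0, 0, 0, 0, 0, 0],
    [0, 0, 0, 0, 0, 0, 8, 0, -8, 8, 0, 8, 0, 0, 0, -8, -8, 0, 0, -8, 0, 0, 8, 0],
    [0, 0, 0, 0, 0, 8, 8, 0, -8, 16, 0, 8, 0, -8, 0, -8, -16, 0, -8, 0, 0, 0, 0, 8],
    [0, 0, 0, 0, 0, 0, 8, 0, -8, -8, 0, 8, 0, 0, 0, -8, 8, 0, 0, 8, 0, 0, -8, 0],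
    [0, 0, 0, 0, 0, 0, 0, 0, -16, -8, 0, 16, 0, 0, -8, 0, 8, -8, 0, 8, 8, 8, -8, 0],
    [0, 0, 0, 0, 0, 0, 8, 0, 0, 8, 0, 0, 0, 0, 0, -8, -8, 8, 8, 0, -8, 0, 0, -8],
    [0, 0, 0, 0, 0, 8, 0, 0, 0, 16, 0, 0, 0, -8, -8, 0, -16, 8, 8, 0, -8, 8, 0, -8],
    [0, 0, 0, 0, 0, 0, 8, 0, 0, 0, 0, 0, 0, 0, -8, -8, 0, 0, -8, 8, 0, 8, -8, 8],
    [0, 0, 0, 0, 0, -8, 8, 0, -8, 0, 0, 8, 0, 8, -16, -8, 0, 0, -8, 0, 0, 16, 0, 8],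
    [0, 0, 0, 0, 0, 0, -8, 0, -8, 8, 0, -8, 0, 0, 0, -8, 8, 0, 0, 8, 0, 0, 8, 0],
    [0, 0, 0, 0, 0, 0, -16, 0, 0, 8, 0, 0, 0, 0, 8, -16, 8, 8, 0, 8, 8, 8, 8, 0],
    [0, 0, 0, 0, 0, 0, 8, 0, 8, 8, 0, 8, 0, 0, 0, 8, 8, 0, 0, 8, 0, 0, 8, 0],
    [0, 0, 0, 0, 0, 8, 8, 0, 8, 0, 0, 8, 0, 8, 0, 8, 0, 0, 8, 16, 0, 0, 16, 8],
    [0, 0, 0, 0, 0, 0, -8, 0, 0, 8, 0, 0, 0, 0, 0, -8, 8, -8, -8, 0, -8, 0, 0, -8],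
    [0, 0, 0, 0, 0, 8, -16, 0, 0, 0, 0, 0, 0, 8, 8, -16, 0, -8, -8, 0, -8, 8, 0, -8],
    [0, 0, 0, 0, 0, 8, 0, 0, 8, 8, 0, 8, 0, 8, 0, 0, 8, 8, 0, 0, 8, 0, 0, 0],
    [0, 0, 0, 0, 0, 16, 0, 0, 0, 8, 0, 0, 0, 16, -8, 0, 8, 8, 0, 8, 8, -8, 8, 0]]

/-- The chain, as pairs of a unit and a line. -/
def chainTab : List (ℕ × ℕ) :=
  [(101, 0), (4, 0), (7, 0), (100, 0), (92, 0), (117, 0), (59, 0), (3, 0), (117, 275), (59, 275), (3, 275), (28, 275), (117, 223), (59, 223), (3, 223), (28, 223), (100, 195), (107, 195), (101, 195), (4, 195), (117, 188), (59, 188), (3, 188), (28, 188)]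

/-- The inner products required at each step after the first. -/
def consTab : List (List ℤ) :=
  [[-16, 0, 0, 0],
    [-16, 0, 8, -8, 8, -8, 0, 0],
    [-16, 0, 8, -8, 8, -8, 0, 0, 16, -16, 8, -8],
    [-16, 0, 8, -8, 8, 0, -8, 0, 8, -8, 8, -8, 16, -16, 8, 0],
    [-16, 0, 8, -8, 8, -8, 0, 0, 16, -8, 0, 0, 16, -8, 0, 0, 8, -8, 0, 8]]

/-- The pattern of each step after the first. -/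
def patOf : List ℕ :=
  [0, 1, 1, 2, 1]

/-- The distinct patterns. -/
def patTab : List (List ℤ) :=
  [[-16, 0, 0, 0],
    [-16, 0, 8, -8, 8, -8, 0, 0],
    [-16, 0, 8, -8, 8, 0, -8, 0]]

/-- The products of the representatives with the first one. -/
def qTab : List (List ℤ) :=
  [[4, 0, 0, 0, 0, 0, 0, 0],
    [2, 0, 0, 0, -2, 0, 0, 0],
    [0, 0, 0, 0, 2, 0, 0, 0],
    [0, 0, 0, 0, 0, 0, 0, 0],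
    [6, -4, -2, 0, -2, 2, 6, -2],
    [2, 0, 2, 0, -2, 2, 0, 0],
    [2, 0, 2, 0, -2, 0, 0, -2],
    [4, -4, 0, 0, -2, 2, 4, -2],
    [4, -2, 0, 0, -2, 2, 4, -2],
    [4, -2, 0, 0, -2, 2, 2, -2],
    [2, 0, 2, 0, -2, 2, 2, -2],
    [2, 0, 2, -2, -2, 0, 0, 0],
    [2, 0, 0, 0, 0, 0, 0, 0],
    [4, -2, 0, 0, 0, 0, 2, -2],
    [2, -2, 0, 0, 0, 0, 0, 0],
    [2, 0, 2, 0, 0, 0, 0, 0],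
    [0, 2, 0, 0, -2, 0, 0, 0],
    [2, -2, 0, -2, 0, 0, 2, 0],
    [0, 0, 0, 0, 2, -2, 0, 0],
    [6, -2, -2, 0, -2, 0, 6, -4],
    [4, -4, 0, 0, -2, 2, 2, -2],
    [6, -2, 2, 0, -4, 2, 2, -2],
    [4, -2, 0, 0, -4, 2, 2, -2],
    [2, -2, 0, 0, 0, 0, 2, 0],
    [2, 0, 0, 0, -2, 0, 2, 0],
    [4, -2, 2, 0, -4, 2, 2, -2],
    [2, 0, 0, 0, 0, 0, 2, -2],
    [4, -4, 0, 0, -2, 2, 6, -2],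
    [4, -2, 0, 0, -2, 0, 4, -2],
    [6, -2, 0, 0, -4, 2, 4, -2],
    [2, 0, 0, 0, 0, 0, 2, 0],
    [2, 0, 0, 0, 0, -2, 2, -2],
    [2, -2, 0, 0, -2, 0, 0, 0]]

/-- The class of each line. -/
def qIdx : List ℕ :=
  [0, 1, 2, 3, 1, 4, 5, 2, 4, 6, 7, 1, 6, 2, 8, 5, 9, 10, 2, 7, 1, 11, 6, 12, 13, 9, 14, 6, 15, 12, 3, 16, 8, 15, 12, 17, 18, 12, 9, 1, 19, 10, 20, 11, 21, 18, 12, 12, 20, 22, 12, 17, 12, 13, 17, 23, 9, 22, 11, 14, 12, 22, 15, 5, 12, 17, 16, 3, 8, 15, 12, 11, 5, 17, 13, 6, 1, 3, 14, 19, 3, 12, 1, 1, 24, 21, 7, 12, 13, 20, 25, 1, 26, 27, 18, 25, 12, 5, 28, 1, 17, 29, 23, 23, 25, 20, 8, 22, 30, 11, 18, 13, 12, 25, 26, 18, 28, 5, 31, 12, 12, 20, 18, 7, 28, 12, 8, 12, 31, 7, 11, 25, 3, 13, 32, 1, 6, 1, 31, 14, 1, 28, 15, 12, 2, 12, 24, 28,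 24, 12, 27, 30, 32, 7, 22, 30, 26, 6, 27, 5, 28, 9, 32, 7, 3, 29, 20, 1, 23, 12, 21, 3, 23, 1, 12, 30, 1, 25, 31, 27, 26, 8, 12, 9, 1, 12, 32, 18, 27, 1, 6, 5, 32, 12, 12, 32, 8, 25, 2, 19, 32, 19, 22, 12, 32, 11, 1, 14, 12, 1, 32, 7, 12, 15, 7, 7, 2, 16, 23, 32, 24, 17, 23, 27, 18, 7, 23, 32, 32, 30, 31, 12, 7, 1, 2, 24, 1, 27, 13, 7, 12, 29, 21, 26, 23, 20, 9, 32, 25, 30, 12, 14, 9, 24, 23, 22, 23, 8, 31, 4, 23, 14, 14, 31, 12, 20, 11, 16, 24, 1, 12, 12, 23, 28, 12, 27, 26, 7, 32, 7, 1, 3, 32, 15, 12, 23, 10, 4, 12, 17, 23, 29, 12, 32, 12, 30, 22, 12, 13, 7, 12, 12, 26, 23, 10, 15, 12, 28, 12, 30, 24, 31, 3, 12, 26]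

/-- The units fitting a pattern and a class. -/
def goodTab : List (List (List ℕ)) :=
  [[[78, 80, 83, 88, 92], [], [], [], [], [], [], [], [], [], [], [], [], [], [], [], [], [], [], [], [], [], [], [], [], [], [], [], [], [], [], [], []],
    [[], [], [], [], [], [], [], [], [], [], [], [], [], [], [], [], [], [], [], [], [97], [], [], [], [], [], [], [117], [], [], [], [], []],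
    [[], [], [], [], [], [], [], [], [], [], [], [], [], [], [], [], [], [], [], [], [], [], [], [], [], [], [], [], [], [], [], [], [100]]]

/-- The numbers of vectors at the steps after the first. -/
def sizeTab : List ℕ :=
  [5, 16, 1, 2, 1]

/-- The multiplier of the certificate. -/
def den : ℤ := 1

/-- The frame through the chain. -/
def certTab : List (List ℤ) :=
  [[-1, -2, -2, -1, 0, 0, 0, 0, 0, 0, 0, 0, 0, 0, 0, 0, 0, 0, 0, 0, 0, 0, 0, 0],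
    [1, 0, 0, 1, 0, 0, 0, 0, 0, 0, 0, 0, 0, 0, 0, 0, 0, 0, 0, 0, 0, 0, 0, 0],
    [-1, -2, -2, -1, -2, -2, 0, 0, 0, 0, 0, 0, 0, 0, 0, 0, 0, 0, 0, 0, 0, 0, 0, 0],
    [-1, -2, -2, -1, -2, -2, -2, 0, 0, 0, 0, 0, 0, 0, 0, 0, 0, 0, 0, 0, 0, 0, 0, 0],
    [-1, -2, 0, 1, 0, 0, 2, 2, 0, 0, 0, 0, 0, 0, 0, 0, 0, 0, 0, 0, 0, 0, 0, 0],
    [5, 6, 4, 3, 6, 8, 4, 0, 4, 6, 4, 2, 2, -2, -4, -4, -2, -6, -4, 0, -2, -4, -2, 0],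
    [3, 0, 0, -1, 2, 0, -2, -2, 2, 0, 0, 0, -2, -4, -2, -2, -2, -2, 0, 0, 0, 0, 0, 0],
    [1, 0, -2, -1, 0, -2, -2, 0, 0, 0, 0, 0, 0, 0, 0, 0, 0, 0, 0, 0, 0, 0, 0, 0],
    [-1, -4, -2, -3, 0, -2, -2, -2, 0, 0, 0, -2, -2, -2, -2, 0, -2, -2, 0, 0, -2, -2, 0, 0],
    [-1, -6, -4, -1, -4, -10, -8, -2, -2, -6, -4, -2, -4, -2, 2, 2, 2, 6, 8, 4, 2, 4, 4, 2],
    [-1, 0, 0, 1, 0, 0, 0, 0, 0, 0, 0, 0, 0, 0, 0, 0, 0, 0, 0, 0, 0, 0, 0, 0],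
    [-1, -2, -2, 1, -2, -2, 0, 2, 0, 0, 0, 2, 0, 0, 2, 0, 2, 2, 0, 0, 0, 0, 0, 0],
    [-1, 0, 0, 1, 0, 2, 2, 2, 0, 0, 0, 0, 0, 0, 0, 0, 0, 0, 0, 0, 0, 0, 0, 0],
    [-1, 2, 4, 3, -4, 0, 6, 6, -4, -2, 0, 2, 4, 8, 8, 4, 6, 6, 0, -4, 4, 2, -2, -4],
    [1, 2, 0, -1, 0, 0, 0, 0, 0, 0, 0, 0, 0, 0, 0, 0, 2, 2, 0, 0, 0, 0, -2, -2],
    [3, 0, 0, -1, 2, 0, -2, -2, 2, 0, 0, 0, 0, -2, -2, -2, -2, -2, 0, 0, -2, -2, 0, 0],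
    [-3, -4, -6, -3, -2, -6, -8, -4, -2, -2, -4, -2, -2, -4, -2, 2, -2, 2, 4, 4, 0, 2, 4, 2],
    [3, 0, 0, -1, 2, 0, -2, -2, 2, 0, 0, -2, -2, -4, -4, -2, -2, -2, 0, 0, 0, 0, 2, 2],
    [-1, 0, 6, 5, -4, 0, 8, 8, -2, -2, 4, 4, 2, 8, 8, 2, 6, 6, 0, -4, 4, 2, -2, -4],
    [-1, -2, -2, -3, 0, -4, -6, -4, 0, -2, -4, -4, -4, -4, -2, 0, -2, 2, 4, 4, 0, 2, 4, 2],
    [3, 4, 2, 1, 4, 8, 6, 2, 2, 4, 4, 2, 4, 2, 0, -2, -2, -6, -8, -4, -2, -6, -6, -2],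
    [1, 4, 2, -3, 4, 8, 6, 0, 0, 4, 4, 0, 2, 2, -4, -4, -2, -6, -8, -4, -2, -6, -6, -2],
    [1, 2, 4, -1, 4, 8, 8, 2, 0, 2, 4, 0, 2, 2, -2, -4, -2, -6, -8, -4, -2, -4, -4, -2],
    [-3, -2, 2, 1, -4, -4, 0, 2, -2, -2, 0, 0, 0, 2, 4, 2, 2, 6, 4, 0, 2, 4, 2, 0]]

end CfsgLib.LeechFive
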