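import Cfsg.Agent.Lib.Icosian.Center

/-!
The trace form on the icosian Leech lattice in integer coordinates.
-/

set_option autoImplicit false

noncomputable section

namespace CfsgLib.LeechFive

open Quaternion
open CfsgLib.Icosian
open Cfsg.Spor (icosians icoLeech qip)

/-- Twenty-four integer coordinates. -/
abbrev Z24 : Type := Fin 24 → ℤ

/-- The triple with given coordinates. -/
def toVec (f : Z24) : Vec :=
  ⟨⟨⟨f 0, f 1⟩, ⟨f 2, f 3⟩, ⟨f 4, f 5⟩, ⟨f 6, f 7⟩⟩,
   ⟨⟨f 8, f 9⟩, ⟨f 10, f 11⟩, ⟨f 12, f 13⟩, ⟨f 14, f 15⟩⟩,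
   ⟨⟨f 16, f 17⟩, ⟨f 18, f 19⟩, ⟨f 20, f 21⟩, ⟨f 22, f 23⟩⟩⟩

/-- The coordinates of a triple. -/
def ofVec (v : Vec) : Z24 :=
  ![v.x.a.a, v.x.a.b, v.x.b.a, v.x.b.b, v.x.c.a, v.x.c.b, v.x.d.a, v.x.d.b,
    v.y.a.a, v.y.a.b, v.y.b.a, v.y.b.b, v.y.c.a, v.y.c.b, v.y.d.a, v.y.d.b,
    v.z.a.a, v.z.a.b, v.z.b.a, v.z.b.b, v.z.c.a, v.z.c.b, v.z.d.a, v.z.d.b]

theorem toVec_ofVec (v : Vec) : toVec (ofVec v) = v := rfl

theorem toVec_injective : Function.Injective toVec := by
  intro f g h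
  simp only [toVec, Vec.mk.injEq, Ico.mk.injEq, ZT.mk.injEq] at h
  funext i
  fin_cases i <;> simp_all

theorem ofVec_toVec (f : Z24) : ofVec (toVec f) = f := toVec_injective (toVec_ofVec _)

/-- The quaternion triple. -/
def toQ : Z24 →+ QV where
  toFun f := (toVec f).toV
  map_zero' := by
    have e : toVec 0 = ⟨0, 0, 0⟩ := rfl
    funext t
    rw [e]
    fin_cases t <;> simp [Vec.toV]
  map_add' f g := by
    have e : toVec (f + g) = ⟨(toVec f).x + (toVec g).x, (toVec f).y + (toVec g).y, (toVec f).z + (toVec g).z⟩ := rfl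
    funext t
    rw [e]
    fin_cases t <;> simp [Vec.toV]

theorem toQ_apply (f : Z24) : toQ f = (toVec f).toV := rfl

theorem toQ_injective : Function.Injective toQ :=
  Vec.toV_injective.comp toVec_injective

theorem toQ_ofVec (v : Vec) : toQ (ofVec v) = v.toV := by rw [toQ_apply, toVec_ofVec]

/-- The lattice as a subgroup of the quaternion triples. -/
def icoSub : AddSubgroup QV where
  carrier := icoLeech
  zero_mem' := by
    have := zeroPt.2
    rwa [show (zeroPt : QV) = 0 from funext zeroPt_apply] at this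
  add_mem' := icoLeech_add
  neg_mem' := neg_mem_icoLeech

/-- The lattice in coordinates. -/
def L24 : AddSubgroup Z24 := icoSub.comap toQ

theorem mem_L24 {f : Z24} : f ∈ L24 ↔ (toVec f).toV ∈ icoLeech := Iff.rfl

theorem mem_L24_of_inL {f : Z24} (h : (toVec f).inL = true) : f ∈ L24 := toV_mem h

/-- The rational trace of a scalar product, scaled. -/
def phiZ (z : ZT) : ℤ := z.a + z.b

/-- The form read off a Hermitian product. -/
def Bq (q : Ico) : ℤ := 4 * (phiZ q.a + phiZ q.conj.a)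

theorem Bq_zero : Bq 0 = 0 := by decide

theorem Bq_add (p q : Ico) : Bq (p + q) = Bq p + Bq q := by
  simp only [Bq, phiZ, Ico.conj, Ico.add_def, ZT.add_def, ZT.sub_def, ZT.mul_def]
  ring

theorem Bq_conj (q : Ico) : Bq q.conj = Bq q := by
  have h : q.conj.conj = q := Ico.toH_injective (by rw [Ico.toH_conj, Ico.toH_conj, star_star])
  simp only [Bq, h]
  ring

theorem eight_dvd_Bq_double (p : Ico) : (8 : ℤ) ∣ Bq (p + p) := by
  rw [Bq_add]
  exact ⟨phiZ p.a + phiZ p.conj.a, by simp only [Bq]; ring⟩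

/-- The form on triples. -/
def Bv (v w : Vec) : ℤ := Bq (Vec.ip v w)

theorem ip_conj (v w : Vec) : Vec.ip w v = (Vec.ip v w).conj :=
  Ico.toH_injective (by rw [Ico.toH_conj, ← Vec.qip_toV, ← Vec.qip_toV, star_qip])

theorem Bv_comm (v w : Vec) : Bv v w = Bv w v := by rw [Bv, Bv, ip_conj w v, Bq_conj]

theorem ip_lmul (a b : Ico) (v w : Vec) :
    Vec.ip (Vec.lmul a v) (Vec.lmul b w) = a * (Vec.ip v w * b.conj) := by
  apply Ico.toH_injective
  simp only [Ico.toH_mul, Ico.toH_conj, ← Vec.qip_toV, Vec.toV_lmul]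
  simp only [qip, star_mul, Finset.mul_sum, Finset.sum_mul, mul_assoc]

/-- The form on coordinates. -/
def B (f g : Z24) : ℤ := Bv (toVec f) (toVec g)

theorem B_comm (f g : Z24) : B f g = B g f := Bv_comm _ _

theorem B_add_left (f f' g : Z24) : B (f + f') g = B f g + B f' g := by
  rw [B, B, B, Bv, Bv, Bv, ← Bq_add]
  congr 1
  apply Ico.toH_injective
  simp only [Ico.toH_add, ← Vec.qip_toV, ← toQ_apply, map_add]
  simp only [qip, Pi.add_apply, add_mul, Finset.sum_add_distrib]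

/-- The form with its right argument fixed. -/
def BHom (g : Z24) : Z24 →+ ℤ := AddMonoidHom.mk' (fun f => B f g) fun f f' => B_add_left f f' g

theorem B_add_right (f g g' : Z24) : B f (g + g') = B f g + B f g' := by
  rw [B_comm, B_add_left, B_comm g, B_comm g']

theorem B_smul_left (n : ℤ) (f g : Z24) : B (n • f) g = n * B f g := by
  have := map_zsmul (BHom g) n f
  simpa [BHom] using this

theorem B_smul_right (n : ℤ) (f g : Z24) : B f (n • g) = n * B f g := by
  rw [B_comm, B_smul_left, B_comm]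

theorem B_sum_left {ι : Type*} (s : Finset ι) (c : ι → Z24) (g : Z24) :
    B (∑ i ∈ s, c i) g = ∑ i ∈ s, B (c i) g := map_sum (BHom g) c s

theorem B_sum_right {ι : Type*} (s : Finset ι) (f : Z24) (c : ι → Z24) :
    B f (∑ i ∈ s, c i) = ∑ i ∈ s, B f (c i) := by
  rw [B_comm, B_sum_left]
  exact Finset.sum_congr rfl fun i _ => B_comm _ _

theorem eight_dvd_B {f g : Z24} (hf : f ∈ L24) (hg : g ∈ L24) : (8 : ℤ) ∣ B f g := by
  obtain ⟨a, ha, e⟩ := qip_mem_two_icosians (mem_L24.1 hf) (mem_L24.1 hg)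
  obtain ⟨a, rfl⟩ := mem_icosians.1 ha
  rw [Vec.qip_toV, mul_two, ← Ico.toH_add] at e
  rw [B, Bv, Ico.toH_injective e]
  exact eight_dvd_Bq_double a

theorem ip_self (v : Vec) : Vec.ip v v = ⟨v.len, 0, 0, 0⟩ := by
  apply Ico.toH_injective
  rw [← Vec.qip_toV, Vec.qip_self, ← toH_scalar]

theorem B_self (f : Z24) : B f f = 8 * phiZ (toVec f).len := by
  rw [B, Bv, ip_self]
  simp only [Bq, phiZ, Ico.conj, ZT.zero_def, ZT.add_def, ZT.sub_def, ZT.mul_def]
  ring

theorem B_self_eq_of_qip {f g : Z24} (h : qip (toQ f) (toQ f) = qip (toQ g) (toQ g)) :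
    B f f = B g g := by
  rw [toQ_apply, toQ_apply, Vec.qip_self, Vec.qip_self, Quaternion.coe_inj] at h
  rw [B_self, B_self, ZT.re_injective h]

/-- The coordinates of a lattice point. -/
def crd (x : Pt) : Z24 := ofVec (exists_vec x.2).choose

theorem toQ_crd (x : Pt) : toQ (crd x) = (x : QV) := by
  rw [crd, toQ_ofVec]
  exact (exists_vec x.2).choose_spec.2

theorem crd_mem (x : Pt) : crd x ∈ L24 := by
  show toQ (crd x) ∈ icoLeech
  rw [toQ_crd]
  exact x.2

theorem crd_injective : Function.Injective crd := fun x y h => Subtype.ext (by rw [← toQ_crd, h, toQ_crd])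

/-- The lattice point with given coordinates. -/
def ptOf (f : L24) : Pt := ⟨toQ f, f.2⟩

theorem crd_ptOf (f : L24) : crd (ptOf f) = f := toQ_injective (toQ_crd _)

theorem crd_of_toV {x : Pt} {v : Vec} (h : (x : QV) = v.toV) : crd x = ofVec v :=
  toQ_injective (by rw [toQ_crd, h, toQ_ofVec])

theorem crd_add {x y z : Pt} (h : ∀ t, (z : QV) t = (x : QV) t + (y : QV) t) :
    crd z = crd x + crd y :=
  toQ_injective (by rw [map_add, toQ_crd, toQ_crd, toQ_crd]; exact funext h)

end CfsgLib.LeechFive
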