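import Cfsg.Agent.Lib.Icosian.Centralizer
import Cfsg.Agent.Lib.HJType.Quot
import Cfsg.Agent.Lib.Components.FStar
import Cfsg.Agent.Lib.Components.FStarSubnormal

/-!
The simple group on a hundred points has an involution centraliser of Hall–Janko type.
-/

set_option autoImplicit false
set_option maxRecDepth 100000

noncomputable section

namespace CfsgLib.LeechFive

open CfsgLib.Icosian CfsgLib.Icosian.Cent CfsgLib.Sporadic CfsgLib.Sporadic.PermCode

theorem outer_cert : ((List.range 2).any fun j => (List.range 32).any fun i => (List.range 32).any fun k =>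
    prodEq (qc 7) (qc i) (qc k) (qc 0) && !prodEq (hc j) (qc i) (qc i) (hc j) &&
      !prodEq (hc j) (qc i) (qc k) (hc j)) = true := by decide +kernel

theorem moved_cert : ((List.range 315).any fun i => (List.range 32).any fun k =>
    decide (k ≠ 7) && tc i == qc k) = true := by decide +kernel

theorem isPGroup_ker : IsPGroup 2 phi.ker :=
  IsPGroup.of_card (n := 5) (by rw [card_facts.1]; norm_num)

theorem emb_one : emb (((1 : H) : HallJanko.grp) : Equiv.Perm HallJanko.Pt) = dec (qc 0) := by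
  rw [q_canon.2.2.2.1, HallJanko.hone]
  exact map_one emb

theorem emb_t0 : emb ((t0 : HallJanko.grp) : Equiv.Perm HallJanko.Pt) = dec (qc 7) := by
  rw [q_canon.2.2.2.2, t0_coe, emb_T]
  rfl

theorem conj_in_Q {a b : H} (ha : a ∈ phi.ker) (hb : b ∈ phi.ker) :
    (a * b : HallJanko.grp) = b * a ∨ (a * b : HallJanko.grp) = t0 * (b * a) := by
  obtain ⟨i, hi⟩ := ker_surj ⟨a, ha⟩
  obtain ⟨j, hj⟩ := ker_surj ⟨b, hb⟩
  have ea : qH i = a := congrArg Subtype.val hi
  have eb : qH j = b := congrArg Subtype.val hj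
  subst ea eb
  have h := List.all_eq_true.1 (List.all_eq_true.1 q_comm i (List.mem_range.2 i.2)) j (List.mem_range.2 j.2)
  simp only [Bool.or_eq_true] at h
  rcases h with h | h
  · exact Or.inl (Subtype.ext (prodEq_eq (emb_qH i) (emb_qH j) (emb_qH j) (emb_qH i) h))
  · right
    refine Subtype.ext (Equiv.ext fun p => Fin.ext ?_)
    simp only [List.all_eq_true, List.mem_range, beq_iff_eq] at h
    simp only [Subgroup.coe_mul, Equiv.Perm.mul_apply]
    rw [apply_eq (emb_qH i), apply_eq (emb_qH j), apply_eq emb_t0, apply_eq (emb_qH j), apply_eq (emb_qH i)]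
    exact h p p.2

theorem centralizer_ker_le : Subgroup.centralizer (phi.ker : Set H) ≤ phi.ker := by
  have hN : (Subgroup.centralizer (phi.ker : Set H)).Normal := inferInstance
  have : IsSimpleGroup phi.range :=
    (MulEquiv.subgroupCongr range_phi).isSimpleGroup_congr.2 alternatingGroup.isSimpleGroup_five
  have hM : ((Subgroup.centralizer (phi.ker : Set H)).map phi.rangeRestrict).Normal :=
    hN.map _ phi.rangeRestrict_surjective
  rcases hM.eq_bot_or_eq_top with h | h
  · intro x hx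
    have := (Subgroup.map_eq_bot_iff _).1 h hx
    rwa [MonoidHom.ker_rangeRestrict] at this
  · exfalso
    have hout := outer_cert
    simp only [List.any_eq_true, List.mem_range, Bool.and_eq_true, Bool.not_eq_true'] at hout
    obtain ⟨j, hj, i, hi, k, hk, ⟨hzk, hne1⟩, hne2⟩ := hout
    obtain ⟨c, hc, e⟩ : phi.rangeRestrict (hH ⟨j, hj⟩) ∈
        (Subgroup.centralizer (phi.ker : Set H)).map phi.rangeRestrict := h ▸ Subgroup.mem_top _
    set q := hH ⟨j, hj⟩ * c⁻¹ with hq
    have hqk : q ∈ phi.ker := by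
      rw [← MonoidHom.ker_rangeRestrict, MonoidHom.mem_ker, hq, map_mul, map_inv, e, mul_inv_cancel]
    have hcomm : qH ⟨i, hi⟩ * c = c * qH ⟨i, hi⟩ :=
      Subgroup.mem_centralizer_iff.1 hc _ (qH_mem_ker ⟨i, hi⟩)
    have hh : hH ⟨j, hj⟩ = q * c := by rw [hq, inv_mul_cancel_right]
    have hzq : (t0 * qH ⟨i, hi⟩ : HallJanko.grp) = qH ⟨k, hk⟩ := by
      have := prodEq_eq (g := (t0 : Equiv.Perm HallJanko.Pt)) emb_t0 (emb_qH ⟨i, hi⟩) (emb_qH ⟨k, hk⟩)
        emb_one hzk
      exact Subtype.ext (this.trans (mul_one _))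
    rcases conj_in_Q hqk (qH_mem_ker ⟨i, hi⟩) with hc1 | hc1
    · refine prodEq_ne (emb_hP ⟨j, hj⟩) (emb_qH ⟨i, hi⟩) (emb_qH ⟨i, hi⟩) (emb_hP ⟨j, hj⟩) (by simp [hne1]) ?_
      have : (hH ⟨j, hj⟩ * qH ⟨i, hi⟩ : H) = qH ⟨i, hi⟩ * hH ⟨j, hj⟩ := by
        rw [hh, mul_assoc, ← hcomm, ← mul_assoc, ← mul_assoc]
        exact congrArg (· * c) (Subtype.ext (by simpa using hc1))
      exact congrArg (fun x : H => ((x : HallJanko.grp) : Equiv.Perm HallJanko.Pt)) this
    · refine prodEq_ne (emb_hP ⟨j, hj⟩) (emb_qH ⟨i, hi⟩) (emb_qH ⟨k, hk⟩) (emb_hP ⟨j, hj⟩) (by simp [hne2]) ?_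
      have : (hH ⟨j, hj⟩ * qH ⟨i, hi⟩ : H) = qH ⟨k, hk⟩ * hH ⟨j, hj⟩ := by
        rw [hh, mul_assoc, ← hcomm, ← mul_assoc, ← mul_assoc]
        refine congrArg (· * c) (Subtype.ext ?_)
        simp only [Subgroup.coe_mul]
        rw [hc1, ← mul_assoc, hzq]
      exact congrArg (fun x : H => ((x : HallJanko.grp) : Equiv.Perm HallJanko.Pt)) this

theorem fstar_H : Cfsg.generalizedFittingSubgroup H = phi.ker := by
  have : Fact (Nat.Prime 2) := ⟨Nat.prime_two⟩
  have hcore : Cfsg.pCore 2 H = phi.ker := by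
    refine le_antisymm ?_ (CfsgLib.PCore.le_pCore inferInstance isPGroup_ker)
    have hPn : (Cfsg.pCore 2 H).Normal := Cfsg.pCore_normal 2 H
    have : IsSimpleGroup phi.range :=
      (MulEquiv.subgroupCongr range_phi).isSimpleGroup_congr.2 alternatingGroup.isSimpleGroup_five
    rcases (hPn.map _ phi.rangeRestrict_surjective).eq_bot_or_eq_top with h | h
    · intro x hx
      have := (Subgroup.map_eq_bot_iff _).1 h hx
      rwa [MonoidHom.ker_rangeRestrict] at this
    · exfalso
      have hp := (CfsgLib.PCore.pCore_isPGroup (p := 2) (G := H)).map phi.rangeRestrict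
      rw [h] at hp
      obtain ⟨n, hn⟩ := IsPGroup.iff_card.1 hp
      rw [Subgroup.card_top, range_phi, nat_card_alternatingGroup, Nat.card_fin] at hn
      have : 3 ∣ 2 ^ n := ⟨20, by rw [← hn]; decide⟩
      exact absurd (Nat.prime_three.dvd_of_dvd_pow this) (by decide)
  rw [CfsgLib.Components.generalizedFitting_eq_pCore_of_centralizer_le 2
    (by rw [hcore]; exact centralizer_ker_le), hcore]

/-- The Hall–Janko shape. -/
theorem hj_shape : ∃ z : HallJanko.grp, orderOf z = 2 ∧
    ∃ (Q : Subgroup (Subgroup.centralizer ({z} : Set HallJanko.grp))) (_ : Q.Normal),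
      Cfsg.generalizedFittingSubgroup (Subgroup.centralizer ({z} : Set HallJanko.grp)) = Q ∧
      Cfsg.IsExtraspecial 2 Q ∧ Nat.card Q = 2 ^ 5 ∧
      Nonempty ((Subgroup.centralizer ({z} : Set HallJanko.grp)) ⧸ Q ≃*
        Cfsg.Omega (ZMod 2) (Cfsg.quadFormMinus 1 (ZMod 2) 1 1)) ∧
      ∃ g : HallJanko.grp, (∃ hq : g * z * g⁻¹ ∈ Subgroup.centralizer ({z} : Set HallJanko.grp),
        (⟨g * z * g⁻¹, hq⟩ : Subgroup.centralizer ({z} : Set HallJanko.grp)) ∈ Q) ∧ g * z * g⁻¹ ≠ z := by
  have : Fact (Nat.Prime 2) := ⟨Nat.prime_two⟩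
  let e : H ≃* Subgroup.centralizer ({t0} : Set HallJanko.grp) := MulEquiv.subgroupCongr card_facts.2
  have hQn : (phi.ker.map e.toMonoidHom).Normal :=
    (inferInstance : phi.ker.Normal).map _ e.surjective
  have e7 : (qH 7 : HallJanko.grp) = t0 := Subtype.ext (hemb ((emb_qH 7).trans emb_t0.symm))
  refine ⟨t0, ?_, phi.ker.map e.toMonoidHom, hQn, ?_, ?_, ?_, ?_, ?_⟩
  · refine orderOf_eq_prime ?_ ?_
    · rw [pow_two]
      refine Subtype.ext ?_
      show (t0 : Equiv.Perm HallJanko.Pt) * t0 = 1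
      rw [t0_coe]
      exact hemb (by
        rw [map_mul, emb_T, ← hmul, map_one, ← HallJanko.hone]
        exact congrArg dec (List.all_eq_true.1 tc_sq 0 (List.mem_range.2 (by norm_num)) |> beq_iff_eq.1))
    · intro h1
      have : qH 7 = qH 0 := by
        rw [qH_zero]
        exact Subtype.ext (e7.trans h1)
      exact absurd (qH_injective this) (by decide)
  · rw [← CfsgLib.Components39.map_generalizedFitting_equiv e, fstar_H]
  · exact CfsgLib.LargeExtra.isExtraspecial_of_equiv (e.subgroupMap phi.ker) extraspecial_ker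
  · rw [Subgroup.card_map_of_injective e.injective, card_facts.1]; norm_num
  · obtain ⟨w⟩ := CfsgLib.HJType.omega_minus_four
    have : (Subgroup.map (e : H →* Subgroup.centralizer ({t0} : Set HallJanko.grp)) phi.ker).Normal := hQn
    exact ⟨(QuotientGroup.congr phi.ker _ e rfl).symm.trans
      ((QuotientGroup.quotientKerEquivRange phi).trans ((MulEquiv.subgroupCongr range_phi).trans w.symm))⟩
  · have h := moved_cert
    simp only [List.any_eq_true, List.mem_range, Bool.and_eq_true, decide_eq_true_eq, beq_iff_eq] at h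
    obtain ⟨i, hi, k, hk, hk7, hik⟩ := h
    obtain ⟨g, hg, hge⟩ := exists_conj ⟨i, hi⟩
    rw [← twoJ2_eq] at hg
    obtain ⟨s, hs⟩ := exists_psi_eq_rho ⟨g, hg⟩
    have hrho : rho ⟨g, hg⟩ 0 = ⟨i, hi⟩ := F_injective (by rw [rho_spec]; exact hge)
    have hconj : s * t0 * s⁻¹ = (qH ⟨k, hk⟩ : HallJanko.grp) := by
      refine Subtype.ext (hemb ?_)
      rw [Subgroup.coe_mul, Subgroup.coe_mul, Subgroup.coe_inv, t0_coe, ← psi_spec, hs, hrho, emb_T,
        emb_qH]
      exact congrArg dec hik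
    refine ⟨s, ⟨?_, ?_⟩, ?_⟩
    · rw [hconj]
      exact card_facts.2 ▸ (qH ⟨k, hk⟩).2
    · refine ⟨qH ⟨k, hk⟩, qH_mem_ker _, Subtype.ext ?_⟩
      exact hconj.symm
    · rw [hconj, ← e7]
      intro heq
      exact hk7 (congrArg Fin.val (qH_injective (Subtype.ext heq)))

end CfsgLib.LeechFive
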