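import Cfsg.Agent.Lib.LeechFive.Form
import Cfsg.Agent.Lib.LeechFive.Data
import Cfsg.Agent.Lib.Golay.FrameElem
import Cfsg.Agent.Lib.Golay.Co0

/-!
An explicit isometry between the icosian Leech lattice and the Leech lattice.
-/

set_option autoImplicit false
set_option maxRecDepth 100000

noncomputable section

namespace CfsgLib.LeechFive

open Cfsg CfsgLib.Icosian CfsgLib.Golay

/-- A row of a table as coordinates. -/
def rowOf (T : List (List ℤ)) (i : ℕ) : Z24 := fun k => (T.getD i []).getD k 0

/-- The frame vector of a point. -/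
def frameV (p : GolayPt) : Z24 := rowOf frameTab (idx p).val

/-- A unit coordinate vector. -/
def unitV (k : Fin 24) : Z24 := Pi.single k 1

/-- The combination of the frame. -/
def comb : (GolayPt → ℤ) →+ Z24 :=
  AddMonoidHom.mk' (fun y => ∑ p, y p • frameV p)
    (fun y z => by simp only [Pi.add_apply, add_smul, Finset.sum_add_distrib])

theorem frame_inL : ((List.range 24).all fun i => (toVec (rowOf frameTab i)).inL) = true := by
  decide +kernel

theorem frameV_mem (p : GolayPt) : frameV p ∈ L24 :=
  mem_L24_of_inL (List.all_eq_true.1 frame_inL _ (List.mem_range.2 (idx p).isLt))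

theorem frame_orth : ∀ i j : Fin 24, B (rowOf frameTab i) (rowOf frameTab j) = if i = j then 64 else 0 := by
  decide +kernel

theorem B_frame (p q : GolayPt) : B (frameV p) (frameV q) = if p = q then 64 else 0 := by
  rw [frameV, frameV, frame_orth]
  simp only [idx_injective.eq_iff]

theorem dual_eq : ∀ k p : Fin 24, B (unitV k) (rowOf frameTab p) = rowOf dualTab k p := by
  decide +kernel

theorem dual_frame : ∀ k i : Fin 24,
    ∑ p : Fin 24, rowOf dualTab k p * rowOf frameTab p i = if k = i then 64 else 0 := by
  decide +kernel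

theorem unit_complete (k : Fin 24) : ∑ p, B (unitV k) (frameV p) • frameV p = (64 : ℤ) • unitV k := by
  funext i
  have h : ∑ p, B (unitV k) (frameV p) * frameV p i = if k = i then 64 else 0 := by
    rw [← Equiv.sum_comp ptEquiv fun p => B (unitV k) (frameV p) * frameV p i, ← dual_frame k i]
    refine Finset.sum_congr rfl fun j _ => ?_
    show B (unitV k) (frameV (pt j)) * frameV (pt j) i = _
    rw [frameV, idx_pt, dual_eq]
  simp only [Finset.sum_apply, Pi.smul_apply, smul_eq_mul]
  rw [h, unitV, Pi.single_apply]
  rcases eq_or_ne k i with e | e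
  · rw [if_pos e, if_pos e.symm, mul_one]
  · rw [if_neg e, if_neg e.symm, mul_zero]

theorem complete (f : Z24) : ∑ p, B f (frameV p) • frameV p = (64 : ℤ) • f := by
  have e : f = ∑ k, f k • unitV k := by
    funext i
    simp [unitV, Pi.single_apply]
  conv_rhs => rw [e]
  rw [Finset.smul_sum]
  conv_lhs => rw [e]
  simp only [B_sum_left, B_smul_left, Finset.sum_smul, mul_smul]
  rw [Finset.sum_comm]
  refine Finset.sum_congr rfl fun k _ => ?_
  rw [← Finset.smul_sum, unit_complete, smul_comm]

theorem span_test : (spanVecs.all fun s =>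
    ((List.finRange 24).all fun i => decide (comb s i % 8 = 0)) &&
      (toVec fun i => comb s i / 8).inL) = true := by
  decide +kernel

/-- The vectors whose combination is eight times a lattice vector. -/
def goodSub : AddSubgroup (GolayPt → ℤ) := (L24.map (nsmulAddMonoidHom 8)).comap comb

theorem mem_goodSub {y : GolayPt → ℤ} : y ∈ goodSub ↔ ∃ f ∈ L24, 8 • f = comb y := by
  simp [goodSub]

theorem exists_pre {y : GolayPt → ℤ} (hy : y ∈ leechLattice) : ∃ f ∈ L24, 8 • f = comb y := by
  refine mem_goodSub.1 (leech_le_of_spanVecs goodSub (fun s hs => ?_) hy)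
  have h := List.all_eq_true.1 span_test s hs
  simp only [Bool.and_eq_true, List.all_eq_true, List.mem_finRange, forall_true_left,
    decide_eq_true_eq] at h
  refine mem_goodSub.2 ⟨_, mem_L24_of_inL h.2, funext fun i => ?_⟩
  have := h.1 i
  simp only [Pi.smul_apply, nsmul_eq_mul, Nat.cast_ofNat]
  omega

theorem B_comb (y : GolayPt → ℤ) (f : Z24) : B f (comb y) = ∑ p, y p * B f (frameV p) := by
  show B f (∑ p, y p • frameV p) = _
  rw [B_sum_right]
  exact Finset.sum_congr rfl fun p _ => B_smul_right _ _ _

/-- The coordinates of the preimage. -/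
def preF (y : leechLattice) : Z24 := (exists_pre y.2).choose

theorem preF_mem (y : leechLattice) : preF y ∈ L24 := (exists_pre y.2).choose_spec.1

theorem eight_preF (y : leechLattice) : (8 : ℤ) • preF y = comb y := by
  rw [← (exists_pre y.2).choose_spec.2, ← natCast_zsmul]
  rfl

theorem B_preF_frame (y : leechLattice) (q : GolayPt) :
    B (preF y) (frameV q) = 8 * (y : GolayPt → ℤ) q := by
  have h : 8 * B (preF y) (frameV q) = (y : GolayPt → ℤ) q * 64 := by
    rw [← B_smul_left, eight_preF, B_comm, B_comb]
    simp only [B_frame, mul_ite, mul_zero, Finset.sum_ite_eq, Finset.mem_univ, if_true]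
  omega

theorem preF_injective : Function.Injective preF := by
  intro y z h
  apply Subtype.ext
  funext q
  have := B_preF_frame y q
  rw [h, B_preF_frame z q] at this
  omega

theorem preF_add (y z : leechLattice) : preF (y + z) = preF y + preF z := by
  apply smul_right_injective Z24 (show (8 : ℤ) ≠ 0 by norm_num)
  simp only [smul_add, eight_preF, AddSubgroup.coe_add, map_add]

theorem B_preF_self (y : leechLattice) : B (preF y) (preF y) = sqNorm (y : GolayPt → ℤ) := by
  have h : 8 * B (preF y) (preF y) = 8 * sqNorm (y : GolayPt → ℤ) := by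
    rw [← B_smul_right, eight_preF, B_comb, ← dot_self, dotInt, Finset.mul_sum]
    exact Finset.sum_congr rfl fun p _ => by rw [B_preF_frame]; ring
  omega

theorem exists_leech {f : Z24} (hf : f ∈ L24) : ∃ y : leechLattice, preF y = f := by
  choose c hc using fun p => eight_dvd_B hf (frameV_mem p)
  have hcomb : comb c = (8 : ℤ) • f := by
    apply smul_right_injective Z24 (show (8 : ℤ) ≠ 0 by norm_num)
    simp only [smul_smul]
    rw [show ((8 : ℤ) * 8) = 64 by norm_num, ← complete f]
    show (8 : ℤ) • ∑ p, c p • frameV p = _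
    rw [Finset.smul_sum]
    exact Finset.sum_congr rfl fun p _ => by rw [smul_smul, hc p]
  have hmem : c ∈ leechLattice := by
    refine mem_leechLattice_of_dual fun x hx => ?_
    have h8 := eight_dvd_B hf (preF_mem ⟨x, hx⟩)
    have e : 8 * B f (preF ⟨x, hx⟩) = 8 * dotInt c x := by
      rw [← B_smul_right, eight_preF, B_comb, dotInt, Finset.mul_sum]
      exact Finset.sum_congr rfl fun p _ => by rw [hc p]; ring
    omega
  refine ⟨⟨c, hmem⟩, smul_right_injective Z24 (show (8 : ℤ) ≠ 0 by norm_num) ?_⟩
  show (8 : ℤ) • preF _ = (8 : ℤ) • f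
  rw [eight_preF, hcomb]

/-- The isometry. -/
def iso : leechLattice ≃ Pt :=
  Equiv.ofBijective (fun y => ptOf ⟨preF y, preF_mem y⟩) ⟨fun y z h => preF_injective (by
    have := congrArg crd h
    rwa [crd_ptOf, crd_ptOf] at this), fun x => by
    obtain ⟨y, hy⟩ := exists_leech (crd_mem x)
    exact ⟨y, crd_injective (by rw [crd_ptOf]; exact hy)⟩⟩

theorem crd_iso (y : leechLattice) : crd (iso y) = preF y := crd_ptOf _

/-- Conjugation by the isometry. -/
def conjIso : Equiv.Perm Pt ≃* Equiv.Perm leechLattice := iso.symm.permCongrHom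

theorem conjIso_apply (g : Equiv.Perm Pt) (y : leechLattice) : conjIso g y = iso.symm (g (iso y)) := rfl

theorem crd_conjIso (g : Equiv.Perm Pt) (y : leechLattice) :
    preF (conjIso g y) = crd (g (iso y)) := by
  rw [← crd_iso, conjIso_apply, Equiv.apply_symm_apply]

/-- The additive isometries of the icosian lattice for the trace form. -/
def IsGood (g : Equiv.Perm Pt) : Prop :=
  (∀ x y z : Pt, crd z = crd x + crd y → crd (g z) = crd (g x) + crd (g y)) ∧
    ∀ x : Pt, B (crd (g x)) (crd (g x)) = B (crd x) (crd x)

theorem conjIso_mem_Co0_iff (g : Equiv.Perm Pt) : conjIso g ∈ Co0 ↔ IsGood g := by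
  constructor
  · rintro ⟨h1, h2⟩
    refine ⟨fun x y z hz => ?_, fun x => ?_⟩
    · have hsum : iso.symm z = iso.symm x + iso.symm y := by
        apply preF_injective
        rw [preF_add, ← crd_iso, ← crd_iso, ← crd_iso, Equiv.apply_symm_apply,
          Equiv.apply_symm_apply, Equiv.apply_symm_apply, hz]
      have h := congrArg preF (h1 (iso.symm x) (iso.symm y))
      rw [← hsum, preF_add, crd_conjIso, crd_conjIso, crd_conjIso] at h
      simpa only [Equiv.apply_symm_apply] using h
    · have h := h2 (iso.symm x)
      rw [← B_preF_self, ← B_preF_self, crd_conjIso, ← crd_iso] at h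
      simpa only [Equiv.apply_symm_apply] using h
  · rintro ⟨h1, h2⟩
    refine ⟨fun y z => preF_injective ?_, fun y => ?_⟩
    · rw [preF_add, crd_conjIso, crd_conjIso, crd_conjIso]
      exact h1 _ _ _ (by rw [crd_iso, crd_iso, crd_iso, preF_add])
    · rw [← B_preF_self, ← B_preF_self, crd_conjIso, ← crd_iso y]
      exact h2 _

/-- The additive isometries as a group. -/
def Lin : Subgroup (Equiv.Perm Pt) := Co0.comap conjIso.toMonoidHom

theorem mem_Lin {g : Equiv.Perm Pt} : g ∈ Lin ↔ IsGood g := conjIso_mem_Co0_iff g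

/-- The isometry group is the automorphism group of the Leech lattice. -/
def linEquiv : Lin ≃* Co0 :=
  (conjIso.subgroupMap Lin).trans (MulEquiv.subgroupCongr
    (Subgroup.map_comap_eq_self_of_surjective conjIso.surjective _))

theorem twoJ2_le_Lin : Cfsg.Spor.twoJ2 ≤ Lin := by
  intro g hg
  obtain ⟨h1, h2⟩ := twoJ2_le_isoGrp hg
  refine mem_Lin.2 ⟨fun x y z hz => ?_, fun x => B_self_eq_of_qip ?_⟩
  · have e : ∀ t, (z : QV) t = 1 * (x : QV) t + (y : QV) t := fun t => by
      rw [one_mul, ← toQ_crd z, hz, map_add, toQ_crd, toQ_crd, Pi.add_apply]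
    refine crd_add fun t => ?_
    have := h1 1 (one_mem _) x y z e t
    rwa [one_mul] at this
  · rw [toQ_crd, toQ_crd]
    exact h2 x x

end CfsgLib.LeechFive
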