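import Cfsg.Agent.Lib.Icosian.Classify
import Cfsg.Agent.Lib.LeechFive.Form
import Cfsg.Agent.Lib.LeechFive.Data

/-!
The conditions on a unit for one pattern and one class of products.
-/

set_option autoImplicit false
set_option maxRecDepth 100000

namespace CfsgLib.LeechFive

open CfsgLib.Icosian

/-- A row of an integer table. -/
def listOf (T : List (List ℤ)) (i : ℕ) : List ℤ := T.getD i []

/-- The unit of order five. -/
noncomputable def uF : Ico := unit fiveIdx

/-- A chain entry. -/
def wPair (k : ℕ) : ℕ × ℕ := chainTab.getD k (0, 0)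

/-- A multiple of a representative. -/
noncomputable def vecP (p : ℕ × ℕ) : Vec := Vec.lmul (unit p.1) (rep p.2)

/-- A product class. -/
def qRep (c : ℕ) : Ico :=
  let g : ℕ → ℤ := fun k => (qTab.getD c []).getD k 0
  ⟨⟨g 0, g 1⟩, ⟨g 2, g 3⟩, ⟨g 4, g 5⟩, ⟨g 6, g 7⟩⟩

/-- The good units of a pattern and a class. -/
def goodOf (j c : ℕ) : List ℕ := (goodTab.getD j []).getD c []

/-- The conditions on a unit. -/
noncomputable def passQ (j : ℕ) (q : Ico) (e : ℕ) : Bool :=
  (List.range (listOf patTab j).length).all fun k =>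
    Bq (unit e * (q * (unit (wPair k).1).conj)) == (listOf patTab j).getD k 0

end CfsgLib.LeechFive
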