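import Cfsg.Agent.Lib.LeechFive.Bound
import Cfsg.Agent.Lib.Icosian.Model
import Cfsg.Agent.Lib.MonsterType.Frame

/-!
The centraliser of the element of order five is the product of `2·J₂` with the group it generates.
-/

set_option autoImplicit false
set_option maxRecDepth 100000

noncomputable section

namespace CfsgLib.LeechFive

open Quaternion
open CfsgLib.Icosian CfsgLib.Sporadic
open Cfsg.Spor (twoJ2 J2 icoLeech qip)

/-- Powers of the element of order five. -/
abbrev Z5 : Subgroup (Equiv.Perm Pt) := Subgroup.zpowers aP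

theorem crd_zeroPt : crd zeroPt = 0 :=
  toQ_injective (by rw [toQ_crd, map_zero]; exact funext zeroPt_apply)

theorem fix_zero {g : Equiv.Perm Pt} (hg : IsGood g) : crd (g zeroPt) = 0 := by
  have h := hg.1 zeroPt zeroPt zeroPt (by rw [crd_zeroPt, add_zero])
  exact left_eq_add.1 h

theorem commute_twoJ2 {g : Equiv.Perm Pt} (hg : g ∈ twoJ2) : g * aP = aP * g := by
  refine Equiv.ext fun x => Subtype.ext (funext fun t => ?_)
  obtain ⟨h1, -⟩ := twoJ2_le_isoGrp hg
  have h := h1 uF.toH (toH_mem _) x zeroPt (aP x) (fun t => by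
    show uF.toH * _ = _
    rw [zeroPt_apply, add_zero]) t
  have h0 : (g zeroPt : QV) t = 0 := by
    rw [← toQ_crd, fix_zero (mem_Lin.1 (twoJ2_le_Lin hg)), map_zero]
    rfl
  rw [h0, add_zero] at h
  exact h

theorem aP_pow_five : aP ^ 5 = 1 := by
  refine Equiv.ext fun x => Subtype.ext (funext fun t => ?_)
  have h5 : uF.toH * uF.toH * uF.toH * uF.toH * uF.toH = 1 := by
    simp only [← Ico.toH_mul, uF_pow.1, Ico.toH_one]
  show uF.toH * (uF.toH * (uF.toH * (uF.toH * (uF.toH * (x : QV) t)))) = (x : QV) t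
  simp only [← mul_assoc, h5, one_mul]

theorem aP_ne_one : aP ≠ 1 := by
  intro h
  have e := Equiv.congr_fun h (wPt ⟨0, by omega⟩)
  have hv : Vec.lmul uF (vecP (wPair 0)) ≠ vecP (wPair 0) := by decide +kernel
  apply hv
  rw [← toVec_wPt ⟨0, by omega⟩, ← toVec_aP, e]
  rfl

theorem orderOf_aP : orderOf aP = 5 :=
  haveI : Fact (Nat.Prime 5) := ⟨by norm_num⟩
  orderOf_eq_prime aP_pow_five aP_ne_one

theorem card_Z5 : Nat.card Z5 = 5 := by rw [Nat.card_zpowers, orderOf_aP]

theorem commute_pair (g : twoJ2) (a : Z5) : Commute (g : Equiv.Perm Pt) a := by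
  obtain ⟨k, hk⟩ := Subgroup.mem_zpowers_iff.1 a.2
  rw [← hk]
  exact Commute.zpow_right (commute_twoJ2 g.2) k

theorem mem_C_twoJ2 {g : Equiv.Perm Pt} (hg : g ∈ twoJ2) : g ∈ C :=
  ⟨twoJ2_le_Lin hg, Subgroup.mem_centralizer_singleton_iff.2 (commute_twoJ2 hg)⟩

theorem aP_mem_C : aP ∈ C := ⟨aP_mem, Subgroup.mem_centralizer_singleton_iff.2 rfl⟩

theorem pair_mem_C (p : twoJ2 × Z5) : (p.1 : Equiv.Perm Pt) * (p.2 : Equiv.Perm Pt) ∈ C :=
  mul_mem (mem_C_twoJ2 p.1.2) ((Subgroup.zpowers_le.2 aP_mem_C) p.2.2)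

/-- The product map. -/
def pairHom : twoJ2 × Z5 →* C where
  toFun p := ⟨(p.1 : Equiv.Perm Pt) * (p.2 : Equiv.Perm Pt), pair_mem_C p⟩
  map_one' := Subtype.ext (one_mul _)
  map_mul' p q := Subtype.ext (by
    simp only [Prod.fst_mul, Prod.snd_mul, Subgroup.coe_mul]
    exact Commute.mul_mul_mul_comm (commute_pair q.1 p.2) _ _)

theorem pairHom_injective : Function.Injective pairHom := by
  refine (injective_iff_map_eq_one _).2 fun p hp => ?_
  have h : (p.1 : Equiv.Perm Pt) * (p.2 : Equiv.Perm Pt) = 1 := congrArg Subtype.val hp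
  have h1 : (p.1 : Equiv.Perm Pt) = ((p.2 : Equiv.Perm Pt))⁻¹ := eq_inv_of_mul_eq_one_left h
  have hc : p.1 ∈ Subgroup.center twoJ2 := Subgroup.mem_center_iff.2 fun g => Subtype.ext (by
    simp only [Subgroup.coe_mul, h1]
    exact (commute_pair g p.2).inv_right.eq)
  have hp1 : p.1 = 1 := by
    have h2 : p.1 ^ 2 = 1 := by
      have := pow_card_eq_one' (x := (⟨p.1, hc⟩ : Subgroup.center twoJ2))
      rw [card_center] at this
      exact congrArg Subtype.val this
    have h5 : p.1 ^ 5 = 1 := by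
      refine Subtype.ext ?_
      rw [SubgroupClass.coe_pow, h1, inv_pow]
      obtain ⟨k, hk⟩ := Subgroup.mem_zpowers_iff.1 p.2.2
      rw [← hk, ← zpow_natCast, ← zpow_mul, mul_comm, zpow_mul, zpow_natCast, aP_pow_five, one_zpow,
        inv_one]
      rfl
    calc p.1 = (p.1 ^ 2)⁻¹ * (p.1 ^ 2)⁻¹ * p.1 ^ 5 := by group
      _ = 1 := by rw [h2, h5]; simp
  refine Prod.ext hp1 (Subtype.ext ?_)
  rw [hp1] at h
  simpa using h

theorem pairHom_bijective : Function.Bijective pairHom := by
  have := finite_C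
  refine (Nat.bijective_iff_injective_and_card _).2 ⟨pairHom_injective, le_antisymm
    (Nat.card_le_card_of_injective _ pairHom_injective) ?_⟩
  rw [Nat.card_prod, card_twoJ2, card_Z5]
  exact card_C_le

/-- The centraliser is a direct product. -/
def cEquiv : C ≃* twoJ2 × Z5 := (MulEquiv.ofBijective pairHom pairHom_bijective).symm

/-- The quotient map to the simple group. -/
def toSimple : C →* HallJanko.grp :=
  toHJ.toMonoidHom.comp ((QuotientGroup.mk' (Subgroup.center twoJ2)).comp
    ((MonoidHom.fst twoJ2 Z5).comp cEquiv.toMonoidHom))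

theorem toSimple_surjective : Function.Surjective toSimple := fun s => by
  obtain ⟨x, hx⟩ := QuotientGroup.mk_surjective (toHJ.symm s)
  refine ⟨pairHom (x, 1), ?_⟩
  show toHJ ((cEquiv (pairHom (x, 1))).1 : J2) = s
  rw [show cEquiv (pairHom (x, 1)) = (x, 1) from MulEquiv.symm_apply_apply _ _, hx, MulEquiv.apply_symm_apply]

theorem ker_cases {c : C} (h : toSimple c = 1) :
    ∃ a ∈ Z5, (c : Equiv.Perm Pt) = a ∨ (c : Equiv.Perm Pt) = negP * a := by
  have h' : ((cEquiv c).1 : J2) = 1 := toHJ.injective (by rw [map_one]; exact h)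
  rw [QuotientGroup.eq_one_iff, center_iff] at h'
  have e : c = pairHom (cEquiv c) :=
    ((MulEquiv.ofBijective pairHom pairHom_bijective).apply_symm_apply c).symm
  refine ⟨_, (cEquiv c).2.2, ?_⟩
  rcases h' with h' | h'
  · left
    conv_lhs => rw [e]
    show ((cEquiv c).1 : Equiv.Perm Pt) * _ = _
    rw [h', OneMemClass.coe_one, one_mul]
  · right
    conv_lhs => rw [e]
    show ((cEquiv c).1 : Equiv.Perm Pt) * _ = _
    rw [h']

theorem toSimple_aP : toSimple ⟨aP, aP_mem_C⟩ = 1 := by
  have e : (⟨aP, aP_mem_C⟩ : C) = pairHom (1, ⟨aP, Subgroup.mem_zpowers _⟩) :=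
    Subtype.ext (one_mul _).symm
  show toHJ ((cEquiv _).1 : J2) = 1
  rw [e, show cEquiv (pairHom _) = _ from MulEquiv.symm_apply_apply _ _]
  exact map_one _

theorem toSimple_negP : toSimple ⟨negP, mem_C_twoJ2 negP_mem⟩ = 1 := by
  have e : (⟨negP, mem_C_twoJ2 negP_mem⟩ : C) = pairHom (⟨negP, negP_mem⟩, 1) :=
    Subtype.ext (mul_one _).symm
  show toHJ ((cEquiv _).1 : J2) = 1
  rw [e, show cEquiv (pairHom _) = _ from MulEquiv.symm_apply_apply _ _,
    (QuotientGroup.eq_one_iff _).2 ((center_iff _).2 (Or.inr rfl)), map_one]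

theorem negP_comm {g : Equiv.Perm Pt} (hg : g ∈ Lin) : g * negP = negP * g := by
  have hneg : ∀ x : Pt, crd (negP x) = -crd x := fun x =>
    toQ_injective (by rw [map_neg, toQ_crd, toQ_crd]; rfl)
  refine Equiv.ext fun x => crd_injective ?_
  have hgood := mem_Lin.1 hg
  show crd (g (negP x)) = crd (negP (g x))
  rw [hneg, ← gHom_crd g hgood, ← gHom_crd g hgood x, ← map_neg]
  exact congrArg _ (Subtype.ext (hneg x))

/-- The element of order five in the automorphism group of the Leech lattice. -/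
def aCo : Cfsg.Co0 := linEquiv ⟨aP, aP_mem⟩

/-- Minus one in the automorphism group of the Leech lattice. -/
def negCo : Cfsg.Co0 := linEquiv ⟨negP, twoJ2_le_Lin negP_mem⟩

theorem center_eq {z : Cfsg.Co0} : z ∈ Subgroup.center Cfsg.Co0 ↔ z = 1 ∨ z = negCo := by
  have hmem : negCo ∈ Subgroup.center Cfsg.Co0 := by
    refine Subgroup.mem_center_iff.2 fun h => ?_
    obtain ⟨g, rfl⟩ := linEquiv.surjective h
    rw [negCo, ← map_mul, ← map_mul]
    exact congrArg _ (Subtype.ext (negP_comm g.2))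
  have hne : negCo ≠ 1 := fun h => negP_ne_one (by
    have := linEquiv.injective (h.trans (map_one linEquiv).symm)
    exact congrArg Subtype.val this)
  constructor
  · intro hz
    obtain ⟨y, -, hu⟩ := (Nat.card_eq_two_iff' (1 : Subgroup.center Cfsg.Co0)).1
      CfsgLib.MonsterType.card_center_Co0
    by_cases h1 : z = 1
    · exact Or.inl h1
    · right
      have e1 := hu ⟨z, hz⟩ fun e => h1 (congrArg Subtype.val e)
      have e2 := hu ⟨negCo, hmem⟩ fun e => hne (congrArg Subtype.val e)
      exact congrArg Subtype.val (e1.trans e2.symm)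
  · rintro (rfl | rfl)
    exacts [one_mem _, hmem]

/-- The subgroup of order five. -/
def A : Subgroup Cfsg.Co0 := Subgroup.zpowers aCo

theorem card_A : Nat.card A = 5 := by
  rw [A, Nat.card_zpowers, aCo, MulEquiv.orderOf_eq, ← Subgroup.orderOf_coe]
  exact orderOf_aP

theorem mem_centralizer_iff' {g : Lin} :
    linEquiv g ∈ Subgroup.centralizer (A : Set Cfsg.Co0) ↔ (g : Equiv.Perm Pt) ∈ C := by
  rw [A, Subgroup.zpowers_eq_closure, Subgroup.centralizer_closure,
    Subgroup.mem_centralizer_singleton_iff, aCo, ← map_mul, ← map_mul, linEquiv.injective.eq_iff]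
  exact ⟨fun h => ⟨g.2, Subgroup.mem_centralizer_singleton_iff.2 (congrArg Subtype.val h)⟩,
    fun h => Subtype.ext (Subgroup.mem_centralizer_singleton_iff.1 h.2)⟩

/-- The centraliser in the automorphism group of the lattice. -/
abbrev CC : Subgroup Cfsg.Co0 := Subgroup.centralizer (A : Set Cfsg.Co0)

/-- Back to permutations of the icosian lattice. -/
def backHom : CC →* C where
  toFun h := ⟨(linEquiv.symm h.1 : Lin), mem_centralizer_iff'.1 (by
    rw [MulEquiv.apply_symm_apply]; exact h.2)⟩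
  map_one' := Subtype.ext (by simp)
  map_mul' a b := Subtype.ext (by simp)

theorem backHom_surjective : Function.Surjective backHom := fun c =>
  ⟨⟨linEquiv ⟨c, c.2.1⟩, mem_centralizer_iff'.2 c.2⟩, Subtype.ext (by simp [backHom])⟩

/-- The map of the centraliser onto the simple group. -/
def proj : CC →* HallJanko.grp := toSimple.comp backHom

theorem proj_surjective : Function.Surjective proj := toSimple_surjective.comp backHom_surjective

theorem ker_proj : proj.ker = (A ⊔ Subgroup.center Cfsg.Co0).subgroupOf CC := by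
  ext h
  rw [MonoidHom.mem_ker, Subgroup.mem_subgroupOf]
  constructor
  · intro hh
    obtain ⟨a, ha, e⟩ := ker_cases hh
    obtain ⟨k, rfl⟩ := Subgroup.mem_zpowers_iff.1 ha
    have hk : linEquiv (⟨aP, aP_mem⟩ ^ k) ∈ A := by
      rw [map_zpow]; exact Subgroup.zpow_mem _ (Subgroup.mem_zpowers _) k
    rcases e with e | e
    · have e' : linEquiv.symm h.1 = ⟨aP, aP_mem⟩ ^ k := Subtype.ext (by rw [SubgroupClass.coe_zpow]; exact e)
      rw [← linEquiv.apply_symm_apply h.1, e']
      exact Subgroup.mem_sup_left hk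
    · have e' : linEquiv.symm h.1 = ⟨negP, twoJ2_le_Lin negP_mem⟩ * ⟨aP, aP_mem⟩ ^ k :=
        Subtype.ext (by rw [Subgroup.coe_mul, SubgroupClass.coe_zpow]; exact e)
      rw [← linEquiv.apply_symm_apply h.1, e', map_mul]
      exact mul_mem (Subgroup.mem_sup_right (center_eq.2 (Or.inr rfl))) (Subgroup.mem_sup_left hk)
  · intro hh
    have hA : A ≤ CC := by
      refine Subgroup.zpowers_le.2 ?_
      rw [show aCo = linEquiv ⟨aP, aP_mem⟩ from rfl]
      exact mem_centralizer_iff'.2 aP_mem_C
    have hle : A ⊔ Subgroup.center Cfsg.Co0 ≤ proj.ker.map CC.subtype := by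
      refine sup_le (Subgroup.zpowers_le.2 ?_) fun z hz => ?_
      · refine ⟨⟨aCo, hA (Subgroup.mem_zpowers _)⟩, ?_, rfl⟩
        show toSimple _ = 1
        convert toSimple_aP using 2
        exact Subtype.ext (by simp [backHom, aCo])
      · rcases center_eq.1 hz with rfl | rfl
        · exact one_mem _
        · refine ⟨⟨negCo, Subgroup.center_le_centralizer _ hz⟩, ?_, rfl⟩
          show toSimple _ = 1
          convert toSimple_negP using 2
          exact Subtype.ext (by simp [backHom, negCo])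
    obtain ⟨y, hy, e⟩ := hle hh
    rwa [← show y = h from Subtype.ext e]

end CfsgLib.LeechFive
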